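import Groth.Agent.H27HW.Extension
import Groth.Agent.H27Zeta.AffineLine

/-!
# Closed points of coprime degrees
-/

set_option autoImplicit false
set_option linter.style.haveILetI false
set_option linter.unusedSectionVars false
set_option backward.isDefEq.respectTransparency.types false
universe u

open CategoryTheory CategoryTheory.Limits AlgebraicGeometry

attribute [local instance] Curv2.resAlgebra

namespace Groth.Agent.H27CurveZeta

variable {k : Type u} [Field k] [Finite k] {C : Scheme.{u}} [C.Over (Spec (CommRingCat.of k))]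

theorem residueDegree_eq (x : C) :
    EGA4loc.residueDegree (C ↘ Spec (CommRingCat.of k)) x = Module.finrank k (C.residueField x) := by
  refine H27Zeta.residueDegree_eq_finrank _ (fun y => ?_) x
  let j := C.fromSpecResidueField y
  rw [← Spec.map_preimage (j ≫ (C ↘ Spec (CommRingCat.of k)))]
  congr 1
  apply Spec.map_injective
  rw [Spec.map_preimage]
  show Spec.map ((Scheme.ΓSpecIso (CommRingCat.of k)).inv ≫ (C ↘ Spec (CommRingCat.of k)).appTop ≫
    C.presheaf.germ ⊤ y trivial ≫ C.residue y) = _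
  simp only [Spec.map_comp, Category.assoc]
  show _ = (Spec.map (C.residue y) ≫ C.fromSpecStalk y) ≫ _
  rw [Category.assoc, ← Scheme.fromSpecStalk_toSpecΓ_assoc, ← Scheme.toSpecΓ_naturality_assoc,
    toSpecΓ_SpecMap_ΓSpecIso_inv, Category.comp_id]

theorem finrank_pos (x : C) (hx : IsClosed ({x} : Set C)) [IsProper (C ↘ Spec (CommRingCat.of k))] :
    0 < Module.finrank k (C.residueField x) := by
  haveI := H29RR.isNoetherian_of_proper (k := k) (X := C)
  haveI := H29RR.isClosedImmersion_pt hx
  haveI : Module.Finite k (Coh.HH C (ClSub.quotMod (H29RR.ptIdeal x)) 0) :=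
    H10Coh.finite_HH_proper k C _
      (H24FSch.isCoh_pushforward_of_isClosedImmersion (H29RR.ptIdeal x).subschemeι (H10Coh.isCoh_structureModule' _)) 0
  haveI : Module.Finite k (C.residueField x) := by
    obtain ⟨e⟩ := H29RR.nonempty_quotMod_pt_equiv (k := k) hx
    exact Module.Finite.equiv e
  exact Module.finrank_pos

variable [GeometricallyIrreducible (C ↘ Spec (CommRingCat.of k))]

/-- In large prime degree there are points. -/
theorem exists_point_of_prime (hC : Curve.IsSmoothProperCurve k C (C ↘ Spec (CommRingCat.of k))) {p : ℕ}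
    (hp : p.Prime) (hbig : 4 * Curv2.genus k C ^ 2 < p) :
    ∃ x : C, IsClosed ({x} : Set C) ∧ Module.finrank k (C.residueField x) ∣ p := by
  haveI := hC.1
  let f := C ↘ Spec (CommRingCat.of k)
  obtain ⟨k', _, _, _, hn⟩ := H27Zeta.exists_extension k p hp.ne_zero
  have h := H27HW.hasseWeil_sq f hC k'
  rw [hn, H27Zeta.pointCount_eq_nPts f k', hn] at h
  have hpos : Zeta.nPts f p ≠ 0 := fun h0 => by
    rw [h0, Nat.cast_zero] at h
    have hq : (p : ℤ) < (Nat.card k : ℤ) ^ p := by
      exact_mod_cast (Nat.lt_pow_self (n := p) (Finite.one_lt_card (α := k)))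
    have hb : (4 * (Curv2.genus k C : ℤ) ^ 2) < (p : ℤ) := by exact_mod_cast hbig
    set Q := (Nat.card k : ℤ) ^ p
    have hQ : 0 < Q := lt_of_le_of_lt (Int.natCast_nonneg p) hq
    have hm := mul_lt_mul_of_pos_right (hb.trans hq) hQ
    have h2 : (0 - Q - 1) ^ 2 < Q * Q := h.trans_lt hm
    nlinarith [h2]
  obtain ⟨e, he, hne⟩ := Finset.exists_ne_zero_of_sum_ne_zero hpos
  obtain ⟨⟨x, hx, hxe⟩⟩ := (Nat.card_ne_zero.1 (mul_ne_zero_iff.1 hne).2).1
  refine ⟨x, hx, ?_⟩
  rw [← residueDegree_eq, hxe]
  exact Nat.dvd_of_mem_divisors he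

/-- Closed points of coprime degrees. -/
theorem exists_coprime (hC : Curve.IsSmoothProperCurve k C (C ↘ Spec (CommRingCat.of k))) :
    ∃ x y : C, IsClosed ({x} : Set C) ∧ IsClosed ({y} : Set C) ∧
      Nat.Coprime (Module.finrank k (C.residueField x)) (Module.finrank k (C.residueField y)) := by
  obtain ⟨p, hp, hpp⟩ := Nat.exists_infinite_primes (4 * Curv2.genus k C ^ 2 + 1)
  obtain ⟨q, hq, hqp⟩ := Nat.exists_infinite_primes (p + 1)
  obtain ⟨x, hx, hxd⟩ := exists_point_of_prime hC hpp (by omega)
  obtain ⟨y, hy, hyd⟩ := exists_point_of_prime hC hqp (by omega)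
  exact ⟨x, y, hx, hy, (((Nat.coprime_primes hpp hqp).2 (by omega)).coprime_dvd_left hxd).coprime_dvd_right hyd⟩

end Groth.Agent.H27CurveZeta
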