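import Groth.Agent.H27CurveZeta.Linear
import Groth.Agent.H27CurveZeta.Points
import Groth.Agent.H28Vert.PicVert

/-!
# Classes of a given degree on a curve over a finite field
-/

set_option autoImplicit false
set_option linter.style.haveILetI false
set_option linter.unusedSectionVars false
set_option backward.isDefEq.respectTransparency.types false
universe u

open CategoryTheory CategoryTheory.Limits AlgebraicGeometry TopologicalSpace

namespace Groth.Agent.H27CurveZeta

attribute [local instance] H28Vert.picLaw Curv2.resAlgebra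

variable {k : Type u} [Field k] {C : Scheme.{u}} [C.Over (Spec (CommRingCat.of k))]
  [IsProper (C ↘ Spec (CommRingCat.of k))] [Smooth (C ↘ Spec (CommRingCat.of k))] [IsIntegral C]

/-- A module of the class. -/
noncomputable def rep {X : Scheme.{u}} (c : PicLoc.PicSet X) : X.Modules := (PicGrp.exists_eq_cls c).choose

theorem rep_inv {X : Scheme.{u}} (c : PicLoc.PicSet X) : PicF.IsInvertible (rep c) :=
  (PicGrp.exists_eq_cls c).choose_spec.choose

theorem cls_rep {X : Scheme.{u}} (c : PicLoc.PicSet X) : PicGrp.cls (rep c) (rep_inv c) = c :=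
  (PicGrp.exists_eq_cls c).choose_spec.choose_spec.symm

theorem nonempty_iso_rep {X : Scheme.{u}} {L : X.Modules} (hL : PicF.IsInvertible L) :
    Nonempty (rep (PicGrp.cls L hL) ≅ L) :=
  (PicGrp.cls_eq_cls_iff _ _).1 (cls_rep (PicGrp.cls L hL))

variable (k) in
/-- The degree of a class. -/
noncomputable def degC (c : PicLoc.PicSet C) : ℤ := Curv2.deg k C (rep c) 1

variable (k) in
/-- The dimension of the sections of a class. -/
noncomputable def h0C (c : PicLoc.PicSet C) : ℕ := Module.finrank k (Coh.HH C (rep c) 0)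

theorem degC_cls {L : C.Modules} (hL : PicF.IsInvertible L) : degC k (PicGrp.cls L hL) = Curv2.deg k C L 1 :=
  H29RR.deg_congr (k := k) (nonempty_iso_rep hL).some

theorem h0C_cls {L : C.Modules} (hL : PicF.IsInvertible L) :
    h0C k (PicGrp.cls L hL) = Module.finrank k (Coh.HH C L 0) :=
  ((H29RR.hhIso (k := k) (nonempty_iso_rep hL).some 0).finrank_eq)

variable (hdim : topologicalKrullDim C = 1)

include hdim in
theorem degC_mul (a b : PicLoc.PicSet C) : degC k (a * b) = degC k a + degC k b := by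
  have h : a * b = PicGrp.cls _ (H11Ample.isInvertible_tensor (rep_inv a) (rep_inv b)) := by
    refine Subtype.ext ?_
    conv_lhs => rw [← cls_rep a, ← cls_rep b]
    exact PicGrp.cls_mul_cls_val _ _
  rw [h, degC_cls, H29RR.deg_tensor (k := k) hdim.le (rep_inv a) (rep_inv b)]
  rfl

theorem degC_one : degC k (1 : PicLoc.PicSet C) = 0 := by
  rw [← PicGrp.cls_structureModule_eq_one, degC_cls, H29RR.deg_structureModule]

include hdim in
theorem degC_inv (a : PicLoc.PicSet C) : degC k a⁻¹ = -degC k a := by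
  have h := degC_mul (k := k) hdim a⁻¹ a
  rw [inv_mul_cancel, degC_one] at h
  omega

include hdim in
theorem degC_zpow (a : PicLoc.PicSet C) (n : ℤ) : degC k (a ^ n) = n * degC k a := by
  induction n with
  | zero => rw [zpow_zero, degC_one, zero_mul]
  | succ n ih => rw [zpow_add_one, degC_mul (k := k) hdim, ih]; ring
  | pred n ih => rw [zpow_sub_one, degC_mul (k := k) hdim, ih, degC_inv (k := k) hdim]; ring

variable (k C) in
/-- The classes of degree `m`. -/
def Cls (m : ℤ) : Type (u + 1) := {c : PicLoc.PicSet C // degC k c = m}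

variable (k C) in
/-- The effective divisors of degree `m`, as combinations of closed points. -/
def Cyc (m : ℤ) : Type u := {α : C →₀ ℕ // (∀ x ∈ α.support, IsClosed ({x} : Set C)) ∧
  (α.sum fun x n => (n : ℤ) * Module.finrank k (C.residueField x)) = m}

/-- The form in which the classes appear in the milestones. -/
theorem natCard_clEquiv (m : ℤ) :
    Nat.card {c : PicF.Cl C // ∃ L : C.Modules, PicF.cl L = c ∧ PicF.IsInvertible L ∧ Curv2.deg k C L 1 = m} =
      Nat.card (Cls k C m) ∧
    Nonempty ({c : PicF.Cl C // ∃ L : C.Modules, PicF.cl L = c ∧ PicF.IsInvertible L ∧ Curv2.deg k C L 1 = m} ≃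
      Cls k C m) := by
  let e : {c : PicF.Cl C // ∃ L : C.Modules, PicF.cl L = c ∧ PicF.IsInvertible L ∧ Curv2.deg k C L 1 = m} ≃
      Cls k C m :=
    { toFun := fun c => ⟨⟨c.1, c.2.choose, c.2.choose_spec.1, c.2.choose_spec.2.1⟩, by
        obtain ⟨h1, h2, h3⟩ := c.2.choose_spec
        rw [show (⟨c.1, c.2.choose, h1, h2⟩ : PicLoc.PicSet C) = PicGrp.cls c.2.choose h2 from Subtype.ext h1.symm,
          degC_cls, h3]⟩
      invFun := fun c => ⟨c.1.1, rep c.1, congrArg Subtype.val (cls_rep c.1), rep_inv c.1, c.2⟩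
      left_inv := fun c => rfl
      right_inv := fun c => rfl }
  exact ⟨Nat.card_congr e, ⟨e⟩⟩

section Finite

variable [Finite k] [GeometricallyIrreducible (C ↘ Spec (CommRingCat.of k))]

include hdim in
theorem exists_deg_one : ∃ u : PicLoc.PicSet C, degC k u = 1 := by
  obtain ⟨x, y, hx, hy, hxy⟩ := exists_coprime (k := k) (C := C)
    ⟨inferInstance, inferInstance, inferInstance, hdim⟩
  obtain ⟨a, b, hab⟩ := Nat.isCoprime_iff_coprime.2 hxy
  have hI : ∀ {z : C} (hz : IsClosed ({z} : Set C)),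
      degC k (H28Vert.idealCls (isDiv_pt (k := k) hdim hz))⁻¹ = Module.finrank k (C.residueField z) := fun {z} hz => by
    rw [degC_inv (k := k) hdim, H28Vert.idealCls, degC_cls, deg_pt (k := k) hdim hz, neg_neg]
  refine ⟨(H28Vert.idealCls (isDiv_pt (k := k) hdim hx))⁻¹ ^ a * (H28Vert.idealCls (isDiv_pt (k := k) hdim hy))⁻¹ ^ b, ?_⟩
  rw [degC_mul (k := k) hdim, degC_zpow (k := k) hdim, degC_zpow (k := k) hdim, hI hx, hI hy]
  exact hab

include hdim in
theorem nonempty_equiv (m m' : ℤ) : Nonempty (Cls k C m ≃ Cls k C m') := by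
  obtain ⟨u, hu⟩ := exists_deg_one (k := k) (C := C) hdim
  exact ⟨(Equiv.mulRight (u ^ (m' - m))).subtypeEquiv fun c => by
    rw [Equiv.coe_mulRight, degC_mul (k := k) hdim, degC_zpow (k := k) hdim, hu, mul_one]
    omega⟩

include hdim in
theorem nonempty_cls (m : ℤ) : Nonempty (Cls k C m) :=
  (nonempty_equiv (k := k) (C := C) hdim 0 m).map fun e => e ⟨1, degC_one⟩

theorem finite_closed_le (n : ℕ) :
    {x : C | IsClosed ({x} : Set C) ∧ Module.finrank k (C.residueField x) ≤ n}.Finite := by
  refine ((Set.finite_Icc 1 n).biUnion fun e he => H27Zeta.finite_degCount (C ↘ Spec (CommRingCat.of k)) e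
    (Nat.one_le_iff_ne_zero.1 he.1)).subset fun x hx => ?_
  exact Set.mem_biUnion (x := Module.finrank k (C.residueField x)) ⟨finrank_pos x hx.1, hx.2⟩
    (residueDegree_eq x)

theorem finite_cyc (m : ℤ) : Finite (Cyc k C m) := by
  classical
  let S := {x : C | IsClosed ({x} : Set C) ∧ Module.finrank k (C.residueField x) ≤ m.toNat}
  haveI : Finite S := (finite_closed_le (k := k) (C := C) m.toNat).to_subtype
  have key : ∀ (a : Cyc k C m) (x : C), x ∈ a.1.support → a.1 x ≤ m.toNat ∧ x ∈ S := fun a x hx => by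
    have hs : (a.1 x : ℤ) * Module.finrank k (C.residueField x) ≤ m :=
      le_of_le_of_eq (Finset.single_le_sum (f := fun y => (a.1 y : ℤ) * Module.finrank k (C.residueField y))
        (fun y _ => mul_nonneg (Int.natCast_nonneg _) (Int.natCast_nonneg _)) hx) a.2.2
    have h1 : 1 ≤ a.1 x := Nat.one_le_iff_ne_zero.2 (Finsupp.mem_support_iff.1 hx)
    have h2 := finrank_pos (k := k) x (a.2.1 x hx)
    have hs' : a.1 x * Module.finrank k (C.residueField x) ≤ m.toNat := by
      have : ((a.1 x * Module.finrank k (C.residueField x) : ℕ) : ℤ) ≤ m := by push_cast; exact hs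
      omega
    exact ⟨le_trans (Nat.le_mul_of_pos_right _ h2) hs', a.2.1 x hx,
      le_trans (Nat.le_mul_of_pos_left _ h1) hs'⟩
  refine Finite.of_injective (β := S → Fin (m.toNat + 1)) (fun a x => ⟨a.1 x, ?_⟩) fun a b h => ?_
  · by_cases hx : (x : C) ∈ a.1.support
    · exact Nat.lt_succ_of_le (key a _ hx).1
    · rw [Finsupp.notMem_support_iff.1 hx]; exact Nat.succ_pos _
  · refine Subtype.ext (Finsupp.ext fun x => ?_)
    by_cases hx : x ∈ S
    · exact congrArg Fin.val (congrFun h ⟨x, hx⟩)
    · rw [Finsupp.notMem_support_iff.1 fun h' => hx (key a x h').2,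
        Finsupp.notMem_support_iff.1 fun h' => hx (key b x h').2]

/-- The class of a combination of points. -/
noncomputable def cycCls {m : ℤ} (a : Cyc k C m) : Cls k C m :=
  ⟨(H28Vert.idealCls (isDiv_ofCycle (k := k) hdim a.2.1))⁻¹, by
    rw [degC_inv (k := k) hdim, H28Vert.idealCls, degC_cls, deg_ofCycle (k := k) hdim a.2.1, a.2.2, neg_neg]⟩

theorem tensor_rep (c : PicLoc.PicSet C) :
    Nonempty (CohB1.tensorMod (rep c⁻¹) (rep c) ≅ Coh.structureModule C) := by
  rw [← PicGrp.cls_mul_cls_eq_one_iff (rep_inv c⁻¹) (rep_inv c), cls_rep, cls_rep, inv_mul_cancel]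

include hdim in
theorem fibre_equiv {m : ℤ} (c : Cls k C m) :
    Nonempty ({a : Cyc k C m // cycCls hdim a = c} ≃
      {I : C.IdealSheafData // IsDiv I ∧ Nonempty (rep c.1⁻¹ ≅ ClSub.idealMod I)}) := by
  have hiff : ∀ {I : C.IdealSheafData} (hI : IsDiv I),
      (H28Vert.idealCls hI)⁻¹ = c.1 ↔ Nonempty (rep c.1⁻¹ ≅ ClSub.idealMod I) := fun {I} hI => by
    rw [inv_eq_iff_eq_inv, eq_comm]
    conv_lhs => rw [← cls_rep c.1⁻¹]
    exact PicGrp.cls_eq_cls_iff _ _
  refine ⟨Equiv.ofBijective (fun a => ⟨ofCycle a.1.1, isDiv_ofCycle (k := k) hdim a.1.2.1,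
    (hiff (isDiv_ofCycle (k := k) hdim a.1.2.1)).1 (congrArg Subtype.val a.2)⟩) ⟨fun a b h => ?_, fun I => ?_⟩⟩
  · exact Subtype.ext (Subtype.ext (ofCycle_inj (k := k) hdim a.1.2.1 b.1.2.1 (congrArg Subtype.val h)))
  · obtain ⟨I, hI, hIso⟩ := I
    have hd : Curv2.deg k C (ClSub.idealMod I) 1 = -m := by
      rw [← H29RR.deg_congr (k := k) hIso.some]
      exact (degC_inv (k := k) hdim c.1).trans (by rw [c.2])
    obtain ⟨α, hα, hαI⟩ := exists_cycle (k := k) hdim _ I hI
      (Int.self_le_toNat (-Curv2.deg k C (ClSub.idealMod I) 1))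
    have hm : (α.sum fun x n => (n : ℤ) * Module.finrank k (C.residueField x)) = m := by
      have := deg_ofCycle (k := k) hdim hα
      rw [hαI, hd] at this
      omega
    refine ⟨⟨⟨α, hα, hm⟩, Subtype.ext ((hiff (isDiv_ofCycle (k := k) hdim hα)).2 ?_)⟩, Subtype.ext hαI⟩
    rw [hαI]
    exact hIso

include hdim in
/-- Counting the effective divisors in one class. -/
theorem card_fibre {m : ℤ} (c : Cls k C m) :
    Nat.card {a : Cyc k C m // cycCls hdim a = c} * (Nat.card k - 1) + 1 = Nat.card k ^ h0C k c.1 := by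
  rw [Nat.card_congr (fibre_equiv (k := k) hdim c).some,
    card_ideals (k := k) hdim (rep_inv _) (rep_inv _) (tensor_rep c.1).some]
  rfl

include hdim in
theorem riemann_roch_cls (c : PicLoc.PicSet C) :
    (h0C k c : ℤ) - Module.finrank k (Coh.HH C (rep c) 1) = degC k c + 1 - Curv2.genus k C := by
  have h := H29RR.riemann_roch (k := k) hdim.le (rep c)
  rw [h0_structure (k := k) (C := C)] at h
  exact h

include hdim in
theorem finite_cls (m : ℤ) : Finite (Cls k C m) := by
  obtain ⟨e⟩ := nonempty_equiv (k := k) (C := C) hdim (Curv2.genus k C : ℤ) m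
  haveI := finite_cyc (k := k) (C := C) (Curv2.genus k C : ℤ)
  haveI : Finite (Cls k C (Curv2.genus k C : ℤ)) := by
    refine Finite.of_surjective (cycCls hdim) fun c => ?_
    have h := card_fibre (k := k) hdim c
    have hrr := riemann_roch_cls (k := k) hdim c.1
    rw [c.2] at hrr
    have hq : 1 < Nat.card k ^ h0C k c.1 :=
      Nat.one_lt_pow (by omega) (Finite.one_lt_card)
    have hne : Nat.card {a : Cyc k C (Curv2.genus k C : ℤ) // cycCls hdim a = c} ≠ 0 := fun h0 => by
      rw [h0, zero_mul] at h; omega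
    obtain ⟨⟨a, ha⟩⟩ := (Nat.card_ne_zero.1 hne).1
    exact ⟨a, ha⟩
  exact Finite.of_equiv _ e

include hdim in
theorem card_cls_eq (m m' : ℤ) : Nat.card (Cls k C m) = Nat.card (Cls k C m') :=
  Nat.card_congr (nonempty_equiv (k := k) (C := C) hdim m m').some

include hdim in
/-- The divisors of degree `m` summed over the classes. -/
theorem card_cyc {m : ℤ} [Fintype (Cls k C m)] :
    (Nat.card (Cyc k C m) * (Nat.card k - 1) + Nat.card (Cls k C m) : ℕ) =
      ∑ c : Cls k C m, Nat.card k ^ h0C k c.1 := by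
  haveI := finite_cyc (k := k) (C := C) m
  rw [← Nat.card_congr (Equiv.sigmaFiberEquiv (cycCls (m := m) hdim)), Nat.card_sigma, Finset.sum_mul,
    Nat.card_eq_fintype_card (α := Cls k C m), ← Finset.card_univ, Finset.card_eq_sum_ones, ← Finset.sum_add_distrib]
  exact Finset.sum_congr rfl fun c _ => card_fibre (k := k) hdim c

end Finite

end Groth.Agent.H27CurveZeta
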