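import Groth.Agent.H11Div.AmpleDiff
import Groth.Agent.H29RR.PointAux
import Groth.Agent.H29RR.MonoHom
import Groth.Agent.H29Ref.DivisorPart
import Groth.Agent.H27CurveDiv.SumDiff
import Groth.Agent.H27Prod.Fibre
import Groth.Agent.H29CurveDual.HomK
import Groth.Agent.H29RR.CurveIntegral
import Groth.Agent.H10Coh.FinType2

/-!
# Effective divisors on a smooth proper curve as finite combinations of closed points
-/

set_option autoImplicit false
set_option linter.style.haveILetI false
set_option linter.unusedSectionVars false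
set_option backward.isDefEq.respectTransparency.types false
universe u

open CategoryTheory CategoryTheory.Limits AlgebraicGeometry TopologicalSpace

namespace Groth.Agent.H27CurveZeta

open Groth.Agent.H29RR (ptIdeal)

attribute [local instance] Curv2.resAlgebra

/-- An ideal of a curve cut out by one function near each point. -/
abbrev IsDiv {C : Scheme.{u}} (I : C.IdealSheafData) : Prop := BlowUp.IsEffCartierIdeal I

/-- The ideal of a finite combination of points. -/
noncomputable def ofCycle {C : Scheme.{u}} (α : C →₀ ℕ) : C.IdealSheafData :=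
  ∏ x ∈ α.support, ptIdeal x ^ α x

variable {k : Type u} [Field k] {C : Scheme.{u}} [C.Over (Spec (CommRingCat.of k))]
  [IsProper (C ↘ Spec (CommRingCat.of k))] [Smooth (C ↘ Spec (CommRingCat.of k))] [IsIntegral C]
  (hdim : topologicalKrullDim C = 1)

local notation "stI" => IntMult.stalkIdeal

include k hdim

theorem isDiv_pt {x : C} (hx : IsClosed ({x} : Set C)) : IsDiv (ptIdeal x) := by
  haveI := H19Grp.isRegularLocalRing_stalk_of_smooth (C ↘ Spec (CommRingCat.of k)) x
  haveI := H29RR.isNoetherian_of_proper (k := k) (X := C)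
  exact (S8914.result _).1 (H29RR.isInvertible_pt_of_regular (k := k) hdim hx)

omit k hdim [Field k] [C.Over (Spec (CommRingCat.of k))] [IsProper (C ↘ Spec (CommRingCat.of k))] [Smooth (C ↘ Spec (CommRingCat.of k))] in
theorem mem_support_pt {x y : C} (hx : IsClosed ({x} : Set C)) : y ∈ (ptIdeal x).support ↔ y = x := by
  have h := H29RR.range_subscheme_pt hx
  rw [Scheme.IdealSheafData.range_subschemeι] at h
  exact Set.ext_iff.1 h y

theorem stalkIdeal_pt_self {x : C} (hx : IsClosed ({x} : Set C)) :
    stI (ptIdeal x) x = IsLocalRing.maximalIdeal (C.presheaf.stalk x) := by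
  obtain ⟨d, hd⟩ : x ∈ Set.range (ptIdeal x).subschemeι := by rw [H29RR.range_subscheme_pt hx]; rfl
  have key : stI (ptIdeal x) ((ptIdeal x).subschemeι d) = IsLocalRing.maximalIdeal _ := by
    rw [H29Ref.stalkIdeal_eq_ker]
    letI := (H29RR.isField_subscheme_stalk hx d).toField
    exact IsLocalRing.eq_maximalIdeal (RingHom.ker_isMaximal_of_surjective
      ((ptIdeal x).subschemeι.stalkMap d).hom ((ptIdeal x).subschemeι.stalkMap_surjective d))
  revert key; rw [hd]; exact id

theorem isDiv_ofCycle {α : C →₀ ℕ} (hα : ∀ x ∈ α.support, IsClosed ({x} : Set C)) : IsDiv (ofCycle α) :=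
  H28Vert.isEffCartierIdeal_prod _ _ (fun x hx => isDiv_pt (k := k) hdim (hα x hx)) _

theorem stalkIdeal_ofCycle {α : C →₀ ℕ} (hα : ∀ x ∈ α.support, IsClosed ({x} : Set C)) {x : C}
    (hx : IsClosed ({x} : Set C)) :
    stI (ofCycle α) x = IsLocalRing.maximalIdeal (C.presheaf.stalk x) ^ α x := by
  rw [ofCycle, H29Ref.stalkIdeal_prod]
  rw [Finset.prod_eq_single x (fun y hy hne => by
      rw [H29Ref.stalkIdeal_pow, (H29Ref.stalkIdeal_eq_top_iff _ _).2 fun h => hne ((mem_support_pt (hα y hy)).1 h).symm,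
        Ideal.top_pow, Ideal.one_eq_top]) (fun h => by
      rw [Finsupp.notMem_support_iff.1 h, pow_zero, H29Ref.stalkIdeal_one, Ideal.one_eq_top]),
    H29Ref.stalkIdeal_pow, stalkIdeal_pt_self (k := k) hdim hx]

theorem dim_stalk {x : C} (hx : IsClosed ({x} : Set C)) : ringKrullDim (C.presheaf.stalk x) = 1 := by
  haveI := H27CurveDiv.smoothOfRelativeDimension_of_dim (C ↘ Spec (CommRingCat.of k)) 1 hdim
  exact H27CurveDiv.dim_stalk_of_isClosed (C ↘ Spec (CommRingCat.of k)) hx

theorem ofCycle_inj {α β : C →₀ ℕ} (hα : ∀ x ∈ α.support, IsClosed ({x} : Set C))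
    (hβ : ∀ x ∈ β.support, IsClosed ({x} : Set C)) (h : ofCycle α = ofCycle β) : α = β := by
  ext x
  by_cases hx : IsClosed ({x} : Set C)
  swap
  · rw [Finsupp.notMem_support_iff.1 fun h => hx (hα x h), Finsupp.notMem_support_iff.1 fun h => hx (hβ x h)]
  haveI := H29RR.isNoetherian_of_proper (k := k) (X := C)
  have e := congrArg (fun I => stI I x) h
  simp only [stalkIdeal_ofCycle (k := k) hdim hα hx, stalkIdeal_ofCycle (k := k) hdim hβ hx] at e
  haveI : IsNoetherianRing (C.presheaf.stalk x) := inferInstance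
  have hne : IsLocalRing.maximalIdeal (C.presheaf.stalk x) ≠ ⊥ := fun hb => by
    have := ringKrullDim_eq_zero_of_isField (IsLocalRing.isField_iff_maximalIdeal_eq.2 hb)
    rw [dim_stalk (k := k) hdim hx] at this
    exact one_ne_zero this
  haveI := H19Grp.isRegularLocalRing_stalk_of_smooth (C ↘ Spec (CommRingCat.of k)) x
  haveI := H8Props.FlatDimOneBase.isPrincipalIdealRing_of_dim_le_one _ (dim_stalk (k := k) hdim hx).le
  exact (Ideal.pow_right_strictAnti _ hne (IsLocalRing.maximalIdeal.isMaximal _).ne_top).injective e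

theorem deg_pt {x : C} (hx : IsClosed ({x} : Set C)) :
    Curv2.deg k C (ClSub.idealMod (ptIdeal x)) 1 = -(Module.finrank k (C.residueField x) : ℤ) := by
  haveI := H29RR.isNoetherian_of_proper (k := k) (X := C)
  have hI := H28Surf.isInvertible_ideal k (A := ptIdeal x) ((S8914.result _).1 ((S8914.result _).2 (isDiv_pt (k := k) hdim hx)))
  obtain ⟨-, -, h⟩ := H29RR.twist_point (k := k) hx (H28Int.isInvertible_structureModule C)
    (H11Ample.isCoh_of_isInvertible hI)
  rw [H25Euler.euler_congr (H10Coh.Tw.rightUnitIso (ClSub.idealMod (ptIdeal x)))] at h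
  simp only [Curv2.deg, Nat.cast_one, one_mul]
  omega

theorem deg_mul {I J : C.IdealSheafData} (hI : IsDiv I) (hJ : IsDiv J) :
    Curv2.deg k C (ClSub.idealMod (I * J)) 1 =
      Curv2.deg k C (ClSub.idealMod I) 1 + Curv2.deg k C (ClSub.idealMod J) 1 := by
  obtain ⟨e⟩ := H28Vert.nonempty_idealMod_mul hI hJ
  rw [← H29RR.deg_congr (k := k) e, H29RR.deg_tensor (k := k) hdim.le ((S8914.result _).2 hI) ((S8914.result _).2 hJ)]

theorem deg_top : Curv2.deg k C (ClSub.idealMod (⊤ : C.IdealSheafData)) 1 = 0 := by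
  have h := deg_mul (k := k) hdim (H29Blow.isEffCartierIdeal_top (X := C)) H29Blow.isEffCartierIdeal_top
  rw [show (⊤ : C.IdealSheafData) * ⊤ = ⊤ from (mul_one (1 : C.IdealSheafData))] at h
  omega

theorem deg_ofCycle {α : C →₀ ℕ} (hα : ∀ x ∈ α.support, IsClosed ({x} : Set C)) :
    Curv2.deg k C (ClSub.idealMod (ofCycle α)) 1 = -(α.sum fun x n => (n : ℤ) * Module.finrank k (C.residueField x)) := by
  classical
  have key : ∀ s : Finset C, (∀ x ∈ s, IsClosed ({x} : Set C)) →
      Curv2.deg k C (ClSub.idealMod (∏ x ∈ s, ptIdeal x ^ α x)) 1 =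
        -∑ x ∈ s, (α x : ℤ) * Module.finrank k (C.residueField x) := by
    intro s hs
    induction s using Finset.induction with
    | empty => rw [Finset.prod_empty, Finset.sum_empty, neg_zero]; exact deg_top (k := k) hdim
    | insert a s ha ih =>
      have hpow : ∀ n : ℕ, IsDiv (ptIdeal a ^ n) ∧
          Curv2.deg k C (ClSub.idealMod (ptIdeal a ^ n)) 1 = -((n : ℤ) * Module.finrank k (C.residueField a)) := by
        intro n
        have ha' := hs a (Finset.mem_insert_self a s)
        induction n with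
        | zero => rw [pow_zero]; exact ⟨H29Blow.isEffCartierIdeal_top, (deg_top (k := k) hdim).trans (by simp)⟩
        | succ n ihn =>
          rw [pow_succ]
          refine ⟨H28Vert.isEffCartierIdeal_mul ihn.1 (isDiv_pt (k := k) hdim ha'), ?_⟩
          rw [deg_mul (k := k) hdim ihn.1 (isDiv_pt (k := k) hdim ha'), ihn.2, deg_pt (k := k) hdim ha']
          push_cast
          ring
      rw [Finset.prod_insert ha, Finset.sum_insert ha, deg_mul (k := k) hdim (hpow (α a)).1
        (H28Vert.isEffCartierIdeal_prod _ _ (fun y hy => isDiv_pt (k := k) hdim (hs y (Finset.mem_insert_of_mem hy))) _),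
        (hpow (α a)).2, ih fun y hy => hs y (Finset.mem_insert_of_mem hy)]
      ring
  exact key α.support hα

theorem deg_nonpos {I : C.IdealSheafData} (hI : IsDiv I) :
    Curv2.deg k C (ClSub.idealMod I) 1 ≤ 0 ∧
      (Curv2.deg k C (ClSub.idealMod I) 1 = 0 → I = ⊤) := by
  haveI := H29RR.isNoetherian_of_proper (k := k) (X := C)
  have hIi := (S8914.result I).2 hI
  obtain ⟨V, hxV, a, ha, haV⟩ := hI (genericPoint C)
  obtain ⟨e, he⟩ := (H29Blow.mem_ideal_iff_exists_idealSect I V.2 a).1 (haV ▸ Ideal.mem_span_singleton_self a)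
  have hne : ClSub.idealModι I ≠ 0 := fun h0 => by
    have h2 : a = 0 := he.symm.trans (by
      show (ClSub.idealModι I).app V.1 e = (0 : Γ(C, V.1))
      rw [h0]; rfl)
    haveI : Nonempty ↥V.1 := ⟨⟨_, hxV⟩⟩
    exact nonZeroDivisors.ne_zero ha h2
  obtain ⟨h1, h2⟩ := H29RR.deg_le_of_ne_zero (k := k) hdim.le hIi (H28Int.isInvertible_structureModule C) hne
  rw [H29RR.deg_structureModule] at h1 h2
  refine ⟨h1, fun h => ?_⟩
  haveI := h2 h
  refine top_le_iff.1 fun W x _ => ?_
  obtain ⟨m, hm⟩ := (ConcreteCategory.bijective_of_isIso ((ClSub.idealModι I).app W.1)).2 x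
  exact (H29Blow.mem_ideal_iff_exists_idealSect I W.2 x).2 ⟨m, hm⟩

theorem exists_cycle (n : ℕ) : ∀ I : C.IdealSheafData, IsDiv I →
    -Curv2.deg k C (ClSub.idealMod I) 1 ≤ (n : ℤ) →
    ∃ α : C →₀ ℕ, (∀ x ∈ α.support, IsClosed ({x} : Set C)) ∧ ofCycle α = I := by
  classical
  haveI := H29RR.isNoetherian_of_proper (k := k) (X := C)
  induction n using Nat.strong_induction_on with
  | _ n ih =>
    intro I hI hn
    by_cases hs : (I.support : Set C) = ∅
    · refine ⟨0, by simp, ?_⟩
      rw [ofCycle, Finsupp.support_zero, Finset.prod_empty]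
      exact ((Scheme.IdealSheafData.support_eq_bot_iff _).1 (TopologicalSpace.Closeds.ext hs)).symm
    haveI : JacobsonSpace C := LocallyOfFiniteType.jacobsonSpace (C ↘ Spec (CommRingCat.of k))
    obtain ⟨x, hxI, hx⟩ := nonempty_inter_closedPoints (Set.nonempty_iff_ne_empty.2 hs)
      I.support.isClosed.isLocallyClosed
    rw [mem_closedPoints_iff] at hx
    have hle : I ≤ ptIdeal x := fun V => H29Ref.le_of_stalkIdeal_le V fun y _ => by
      by_cases hy : y = x
      · subst hy
        rw [stalkIdeal_pt_self (k := k) hdim hx]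
        exact IsLocalRing.le_maximalIdeal fun h => (H29Ref.stalkIdeal_eq_top_iff _ _).1 h hxI
      · rw [(H29Ref.stalkIdeal_eq_top_iff (ptIdeal x) y).2 fun h => hy ((mem_support_pt hx).1 h)]
        exact le_top
    obtain ⟨K, hK⟩ := H27CurveDiv.exists_eq_mul (isDiv_pt (k := k) hdim hx) hle
    have hKd : IsDiv K := H29Blow.isEffCartierIdeal_of_stalk K fun y V hy => by
      haveI := H19Grp.isRegularLocalRing_stalk_of_smooth (C ↘ Spec (CommRingCat.of k)) y
      haveI := H8Props.FlatDimOneBase.isPrincipalIdealRing_of_dim_le_one _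
        ((H8Props.FlatDimOneBase.ringKrullDim_stalk_le C y).trans hdim.le)
      rw [← H29Ref.stalkIdeal_eq K y V hy]
      obtain ⟨g, hg⟩ := IsPrincipalIdealRing.principal (stI K y)
      refine ⟨g, mem_nonZeroDivisors_of_ne_zero fun h0 => ?_, hg⟩
      obtain ⟨U, hU, hyU, -⟩ := exists_isAffineOpen_mem_and_subset (show y ∈ (⊤ : C.Opens) from trivial)
      obtain ⟨W, hW, a, ha, haW⟩ := hI y
      have hbot : stI I y = ⊥ := by
        rw [← hK, H29Ref.stalkIdeal_mul, show stI K y = (⊥ : Ideal (C.presheaf.stalk y)) from hg.trans (Ideal.span_singleton_eq_bot.2 h0), Ideal.mul_bot]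
      rw [H29Ref.stalkIdeal_eq I y W hW, haW, Ideal.map_span, Set.image_singleton,
        Ideal.span_singleton_eq_bot] at hbot
      haveI : Nonempty ↥W.1 := ⟨⟨y, hW⟩⟩
      exact nonZeroDivisors.ne_zero ha (germ_injective_of_isIntegral C y hW (hbot.trans (map_zero _).symm))
    have hd := deg_mul (k := k) hdim (isDiv_pt (k := k) hdim hx) hKd
    rw [hK, deg_pt (k := k) hdim hx] at hd
    have hpos : 0 < Module.finrank k (C.residueField x) := by
      haveI := H29RR.isClosedImmersion_pt hx
      haveI : Module.Finite k (Coh.HH C (ClSub.quotMod (ptIdeal x)) 0) :=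
        H10Coh.finite_HH_proper k C _
          (H24FSch.isCoh_pushforward_of_isClosedImmersion (ptIdeal x).subschemeι (H10Coh.isCoh_structureModule' _)) 0
      haveI : Module.Finite k (C.residueField x) := by
        obtain ⟨e⟩ := H29RR.nonempty_quotMod_pt_equiv (k := k) hx
        exact Module.Finite.equiv e
      exact Module.finrank_pos
    have hKn := (deg_nonpos (k := k) hdim hKd).1
    obtain ⟨β, hβ, hβK⟩ := ih (-Curv2.deg k C (ClSub.idealMod K) 1).toNat (by omega) K hKd (by omega)
    refine ⟨β + Finsupp.single x 1, fun y hy => ?_, ?_⟩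
    · rcases Finset.mem_union.1 (Finsupp.support_add hy) with h | h
      · exact hβ y h
      · obtain rfl := Finset.mem_singleton.1 (Finsupp.support_single_subset h)
        exact hx
    · rw [← hK, ← hβK, mul_comm]
      have hall : ∀ γ : C →₀ ℕ, ofCycle γ = γ.prod fun y n => ptIdeal y ^ n := fun γ => rfl
      rw [hall, hall, Finsupp.prod_add_index' (fun _ => pow_zero _) (fun _ _ _ => pow_add _ _ _),
        Finsupp.prod_single_index (h := fun y n => ptIdeal y ^ n) (pow_zero _), pow_one]

end Groth.Agent.H27CurveZeta
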