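import Groth.Agent.H27CurveZeta.Ideals
import Groth.Agent.H29CurveDual.CanonAux
import Groth.Agent.H11KerGG.Basic

/-!
# Effective divisors in a class over a finite field
-/

set_option autoImplicit false
set_option linter.style.haveILetI false
set_option linter.unusedSectionVars false
set_option backward.isDefEq.respectTransparency.types false
universe u

open CategoryTheory CategoryTheory.Limits AlgebraicGeometry TopologicalSpace Opposite

namespace Groth.Agent.H27CurveZeta

open Groth.Agent.H11Div (valIdeal valIdeal_eq_span)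

attribute [local instance] H29CurveDual.homModule

section Ideal

variable {X : Scheme.{u}} [IsIntegral X] [IsLocallyNoetherian X] {M : X.Modules}

/-- A nonzero map of an invertible module to functions is the inclusion of an effective divisor. -/
theorem exists_ideal_of_hom (hM : PicF.IsInvertible M) {μ : M ⟶ Coh.structureModule X} (hμ : μ ≠ 0) :
    ∃ I : X.IdealSheafData, IsDiv I ∧ ∃ φ : M ≅ ClSub.idealMod I, φ.hom ≫ ClSub.idealModι I = μ := by
  classical
  have hmono : Mono μ := (H29RR.mono_of_ne_zero hM (H28Int.isInvertible_structureModule X) hμ).1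
  have hnz : ∀ (V : X.Opens) (e : Γ(M, V)), (∃ x, x ∈ V) → H11Tilde.IsGen M e →
      (show Γ(X, V) from μ.app V e) ∈ nonZeroDivisors Γ(X, V) := fun V e hne he => by
    obtain ⟨x, hx⟩ := hne
    haveI : Nonempty ↥V := ⟨⟨x, hx⟩⟩
    haveI := @IsIntegral.component_integral X _ V ⟨⟨x, hx⟩⟩
    refine mem_nonZeroDivisors_of_ne_zero fun h => one_ne_zero (α := Γ(X, V)) ?_
    have he0 : e = 0 := H10Coh.injective_app_of_mono' μ V (h.trans (map_zero _).symm)
    refine (he.bijective le_rfl).1 ?_
    show (1 : Γ(X, V)) • M.presheaf.map _ e = (0 : Γ(X, V)) • M.presheaf.map _ e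
    rw [he0, map_zero, smul_zero, smul_zero]
  have hlp : H28Mero.IsLocPrincipal (valIdeal μ) := fun O x hx => by
    obtain ⟨U, e, hxU, he⟩ := H11Ample.exists_gen hM x
    obtain ⟨V, hV, hxV, hVle⟩ := exists_isAffineOpen_mem_and_subset (U := O ⊓ U) (x := x) ⟨hx, hxU⟩
    exact ⟨V, hV, hxV, fun y hy => (hVle hy).1, μ.app V (M.presheaf.map (homOfLE fun y hy => (hVle hy).2).op e),
      fun y hy => valIdeal_eq_span μ (he.res _) y hy⟩
  let I := H28Mero.germIdealSheaf (valIdeal μ) hlp
  have hloc : ∀ x : X, ∃ (V : X.Opens) (hV : IsAffineOpen V) (e : Γ(M, V)), x ∈ V ∧ H11Tilde.IsGen M e ∧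
      I.ideal ⟨V, hV⟩ = Ideal.span {(show Γ(X, V) from μ.app V e)} := by
    intro x
    obtain ⟨U, e₀, hxU, he₀⟩ := H11Ample.exists_gen hM x
    obtain ⟨V, hV, hxV, hVU⟩ := exists_isAffineOpen_mem_and_subset (U := U) hxU
    have he := he₀.res (show V ≤ U from hVU)
    exact ⟨V, hV, _, hxV, he, H28Mero.germIdeal_eq_span hV _ fun y hy => valIdeal_eq_span μ he y hy⟩
  have hI : BlowUp.IsEffCartierIdeal I := fun x => by
    obtain ⟨V, hV, e, hxV, he, h1⟩ := hloc x
    exact ⟨⟨V, hV⟩, hxV, _, hnz V e ⟨x, hxV⟩ he, h1⟩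
  have w : μ ≫ ClSub.toSubscheme I = 0 := by
    refine Scheme.Modules.hom_ext _ _ fun W => ?_
    ext t
    refine H11Tilde.eq_of_locally _ _ fun x hx => ?_
    obtain ⟨U, hU, hxU, hUW⟩ := exists_isAffineOpen_mem_and_subset hx
    refine ⟨U, hUW, hxU, ?_⟩
    rw [← H11Tilde.app_map_apply, ← H11Tilde.app_map_apply]
    let m : Γ(M, U) := M.presheaf.map (homOfLE (show U ≤ W from hUW)).op t
    show (ClSub.toSubscheme I).app U (μ.app U m) = _
    exact ((H17.IdealPair.app_eq_zero_iff I hU _).2 (H28Mero.mem_germIdeal.2 fun y hy =>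
      Ideal.subset_span ⟨U, hy, m, rfl⟩)).trans rfl
  let φ : M ⟶ ClSub.idealMod I := kernel.lift (ClSub.toSubscheme I) μ w
  have hφ : φ ≫ ClSub.idealModι I = μ := kernel.lift_ι _ _ _
  have : IsIso φ := by
    refine H11Tilde.isIso_of_gen φ fun x => ?_
    obtain ⟨V, hV, e, hxV, he, h1⟩ := hloc x
    refine ⟨V, e, hxV, he, H28Vert.isGen_idealSect hI hV ?_⟩
    rw [h1]
    refine congrArg (fun c => Ideal.span {c}) ?_
    show _ = (φ ≫ ClSub.idealModι I).app V e
    rw [hφ]
  exact ⟨I, hI, asIso φ, hφ⟩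

/-- The divisor of a map is determined by the map. -/
theorem ideal_eq_of_hom {I J : X.IdealSheafData} (φ : M ≅ ClSub.idealMod I) (ψ : M ≅ ClSub.idealMod J)
    (h : φ.hom ≫ ClSub.idealModι I = ψ.hom ≫ ClSub.idealModι J) : I = J := by
  have key : ∀ {K : X.IdealSheafData} (χ : M ≅ ClSub.idealMod K) (U : X.affineOpens) (a : Γ(X, U.1)),
      a ∈ K.ideal U ↔ ∃ m, (χ.hom ≫ ClSub.idealModι K).app U.1 m = a := fun {K} χ U a => by
    refine (H29Blow.mem_ideal_iff_exists_idealSect K U.2 a).trans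
      ⟨fun ⟨m, hm⟩ => ⟨χ.inv.app U.1 m, ?_⟩, fun ⟨m, hm⟩ => ⟨χ.hom.app U.1 m, hm⟩⟩
    show (ClSub.idealModι K).app U.1 ((χ.inv ≫ χ.hom).app U.1 m) = a
    rw [Iso.inv_hom_id]
    exact hm
  exact Scheme.IdealSheafData.ext (funext fun U => Ideal.ext fun a => by rw [key φ, key ψ, h])

theorem idealModι_ne_zero {I : X.IdealSheafData} (hI : IsDiv I) : ClSub.idealModι I ≠ 0 := fun h0 => by
  obtain ⟨V, hxV, a, ha, haV⟩ := hI (genericPoint X)
  obtain ⟨e, he⟩ := (H29Blow.mem_ideal_iff_exists_idealSect I V.2 a).1 (haV ▸ Ideal.mem_span_singleton_self a)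
  have h2 : a = 0 := he.symm.trans (by
    show (ClSub.idealModι I).app V.1 e = (0 : Γ(X, V.1))
    rw [h0]; rfl)
  haveI : Nonempty ↥V.1 := ⟨⟨_, hxV⟩⟩
  exact nonZeroDivisors.ne_zero ha h2

theorem card_nonzero_hom (hM : PicF.IsInvertible M) :
    Nat.card {μ : M ⟶ Coh.structureModule X // μ ≠ 0} =
      Nat.card {I : X.IdealSheafData // IsDiv I ∧ Nonempty (M ≅ ClSub.idealMod I)} * Nat.card (M ≅ M) := by
  let S := {I : X.IdealSheafData // IsDiv I ∧ Nonempty (M ≅ ClSub.idealMod I)}
  let f : (Σ I : S, (M ≅ ClSub.idealMod I.1)) → {μ : M ⟶ Coh.structureModule X // μ ≠ 0} := fun p =>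
    ⟨p.2.hom ≫ ClSub.idealModι p.1.1, fun h => idealModι_ne_zero p.1.2.1 (by
      rw [← cancel_epi p.2.hom, h, comp_zero])⟩
  have hf : Function.Bijective f := by
    refine ⟨fun p q h => ?_, fun μ => ?_⟩
    · obtain ⟨⟨I, hI⟩, φ⟩ := p
      obtain ⟨⟨J, hJ⟩, ψ⟩ := q
      have h' : φ.hom ≫ ClSub.idealModι I = ψ.hom ≫ ClSub.idealModι J := congrArg Subtype.val h
      obtain rfl := ideal_eq_of_hom φ ψ h'
      obtain rfl : φ = ψ := Iso.ext ((cancel_mono (kernel.ι (ClSub.toSubscheme I))).1 h')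
      rfl
    · obtain ⟨I, hI, φ, hφ⟩ := exists_ideal_of_hom hM μ.2
      exact ⟨⟨⟨I, hI, ⟨φ⟩⟩, φ⟩, Subtype.ext hφ⟩
  let g : ∀ I : S, (M ≅ ClSub.idealMod I.1) ≃ (M ≅ M) := fun I =>
    { toFun := fun φ => φ ≪≫ I.2.2.some.symm
      invFun := fun a => a ≪≫ I.2.2.some
      left_inv := fun φ => Iso.ext (by simp)
      right_inv := fun a => Iso.ext (by simp) }
  rw [← Nat.card_congr (Equiv.ofBijective f hf), Nat.card_congr (Equiv.sigmaEquivProdOfEquiv g), Nat.card_prod]

end Ideal

section Curve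

variable {k : Type u} [Field k] {C : Scheme.{u}} [C.Over (Spec (CommRingCat.of k))]
  [IsProper (C ↘ Spec (CommRingCat.of k))] [Smooth (C ↘ Spec (CommRingCat.of k))] [IsIntegral C]

theorem finite_hom_structure [Finite k] {G : C.Modules} (hG : Coh.IsCoh G) :
    Finite (Coh.structureModule C ⟶ G) := by
  haveI := H29RR.isNoetherian_of_proper (k := k) (X := C)
  haveI : Module.Finite k (Coh.HH C G 0) := H10Coh.finite_HH_proper k C G hG 0
  haveI : Finite (Coh.HH C G 0) := Module.finite_of_finite k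
  refine Finite.of_injective (fun φ => (H29RR.sec G).symm (φ.app ⊤ (H11Ample.one ⊤))) fun φ ψ h => ?_
  have h1 : φ.app ⊤ (H11Ample.one ⊤) = ψ.app ⊤ (H11Ample.one ⊤) := (H29RR.sec G).symm.injective h
  refine Scheme.Modules.hom_ext _ _ fun U => ?_
  ext r
  show φ.app U r = ψ.app U r
  rw [H11KerGG.app_eq_smul φ, H11KerGG.app_eq_smul ψ, ← H11KerGG.res_one (le_top : U ≤ ⊤),
    H11Tilde.app_map_apply, H11Tilde.app_map_apply, h1]

theorem finite_hom [Finite k] {M N G : C.Modules} (hN : PicF.IsInvertible N) (hG : PicF.IsInvertible G)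
    (e : CohB1.tensorMod M N ≅ Coh.structureModule C) : Finite (M ⟶ G) := by
  haveI := H29RR.isNoetherian_of_proper (k := k) (X := C)
  haveI := finite_hom_structure (k := k) (G := CohB1.tensorMod G N)
    (H11Ample.isCoh_of_isInvertible (H11Ample.isInvertible_tensor hG hN))
  haveI : Finite (Coh.structureModule C ⟶ (H29RR.twist N).obj G) := finite_hom_structure (k := k) (H11Ample.isCoh_of_isInvertible (H11Ample.isInvertible_tensor hG hN))
  refine Finite.of_injective (fun φ => e.inv ≫ (H29RR.twist N).map φ) fun φ ψ h => ?_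
  have h' := (cancel_epi e.inv).1 h
  refine sub_eq_zero.1 (H29RR.twist_map_eq_zero hN ?_)
  rw [Functor.map_sub]
  exact sub_eq_zero.2 h'

theorem card_ne_zero {A : Type*} [Zero A] [Finite A] : Nat.card {a : A // a ≠ 0} + 1 = Nat.card A := by
  classical
  rw [Nat.card_congr (Equiv.optionSubtypeNe (0 : A)).symm, Finite.card_option]

theorem natCard_hom [Finite k] {M N G : C.Modules} (hN : PicF.IsInvertible N) (hG : PicF.IsInvertible G)
    (e : CohB1.tensorMod M N ≅ Coh.structureModule C) :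
    Nat.card (M ⟶ G) = Nat.card k ^ Module.finrank k (Coh.HH C (CohB1.tensorMod G N) 0) := by
  haveI := finite_hom (k := k) hN hG e
  haveI : Module.Finite k (M ⟶ G) := Module.Finite.of_finite
  rw [Module.natCard_eq_pow_finrank (K := k), H29CurveDual.finrank_hom_invertible k hN e]

variable [GeometricallyIrreducible (C ↘ Spec (CommRingCat.of k))]

theorem geomConnected : GeometricallyConnected (C ↘ Spec (CommRingCat.of k)) :=
  ⟨fun K _ y Z fst snd h => by
    haveI : IrreducibleSpace Z := GeometricallyIrreducible.geometrically_irreducibleSpace (f := C ↘ Spec (CommRingCat.of k)) y fst snd h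
    infer_instance⟩

theorem h0_structure : Module.finrank k (Coh.HH C (Coh.structureModule C) 0) = 1 := by
  haveI := geomConnected (k := k) (C := C)
  exact H29CurveDual.finrank_h0_structure_smooth

theorem card_aut [Finite k] (hdim : topologicalKrullDim C = 1) {M N : C.Modules} (hM : PicF.IsInvertible M)
    (hN : PicF.IsInvertible N) (e : CohB1.tensorMod M N ≅ Coh.structureModule C) :
    Nat.card (M ≅ M) + 1 = Nat.card k := by
  haveI := finite_hom (k := k) hN hM e
  have h := natCard_hom (k := k) hN hM e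
  rw [(H29RR.hhIso (k := k) e 0).finrank_eq, h0_structure (k := k) (C := C), pow_one] at h
  have hid : 𝟙 M ≠ 0 := fun h0 => by
    haveI : Subsingleton (M ⟶ M) := ⟨fun a b => by
      rw [← Category.id_comp a, ← Category.id_comp b, h0, zero_comp, zero_comp]⟩
    rw [Nat.card_of_subsingleton (0 : M ⟶ M)] at h
    exact (Finite.one_lt_card (α := k)).ne' h.symm
  let f : (M ≅ M) → {φ : M ⟶ M // φ ≠ 0} := fun a => ⟨a.hom, fun h0 => hid (by
    rw [← a.hom_inv_id, h0, zero_comp])⟩
  have hf : Function.Bijective f := by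
    refine ⟨fun a b hab => Iso.ext (congrArg Subtype.val hab), fun φ => ?_⟩
    haveI := (H29RR.deg_le_of_ne_zero (k := k) hdim.le hM hM φ.2).2 rfl
    exact ⟨asIso φ.1, rfl⟩
  rw [Nat.card_congr (Equiv.ofBijective f hf), card_ne_zero, h]

/-- Effective divisors in a class correspond to lines of sections. -/
theorem card_ideals [Finite k] (hdim : topologicalKrullDim C = 1) {M L : C.Modules} (hM : PicF.IsInvertible M)
    (hL : PicF.IsInvertible L) (e : CohB1.tensorMod M L ≅ Coh.structureModule C) :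
    Nat.card {I : C.IdealSheafData // IsDiv I ∧ Nonempty (M ≅ ClSub.idealMod I)} * (Nat.card k - 1) + 1 =
      Nat.card k ^ Module.finrank k (Coh.HH C L 0) := by
  haveI := H29RR.isNoetherian_of_proper (k := k) (X := C)
  haveI := finite_hom (k := k) hL (H28Int.isInvertible_structureModule C) e
  have h1 := card_nonzero_hom hM
  have h2 := card_aut (k := k) hdim hM hL e
  have h3 := natCard_hom (k := k) hL (H28Int.isInvertible_structureModule C) e
  rw [(H29RR.hhIso (k := k) (H10Coh.Tw.leftUnitIso L) 0).finrank_eq] at h3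
  rw [← h3, ← card_ne_zero (A := M ⟶ Coh.structureModule C), h1, ← h2, Nat.add_sub_cancel]

/-- There are finitely many effective divisors in a class. -/
theorem finite_ideals [Finite k] {M L : C.Modules}
    (hL : PicF.IsInvertible L) (e : CohB1.tensorMod M L ≅ Coh.structureModule C) :
    Finite {I : C.IdealSheafData // IsDiv I ∧ Nonempty (M ≅ ClSub.idealMod I)} := by
  haveI := H29RR.isNoetherian_of_proper (k := k) (X := C)
  haveI := finite_hom (k := k) hL (H28Int.isInvertible_structureModule C) e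
  refine Finite.of_injective (fun I => I.2.2.some.hom ≫ ClSub.idealModι I.1) fun I J h => ?_
  exact Subtype.ext (ideal_eq_of_hom _ _ h)

end Curve

end Groth.Agent.H27CurveZeta
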