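import Groth.Agent.H27CurveZeta.Classes
import Groth.Agent.H27Zeta.ZetaBasics

/-!
# The zeta series of a curve and its numerator
-/

set_option autoImplicit false
set_option linter.style.haveILetI false
set_option linter.unusedSectionVars false
set_option backward.isDefEq.respectTransparency.types false
universe u

open CategoryTheory CategoryTheory.Limits AlgebraicGeometry TopologicalSpace

namespace Groth.Agent.H27CurveZeta

attribute [local instance] H28Vert.picLaw Curv2.resAlgebra

/-- The series `1 + t^d + t^{2d} + ⋯`. -/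
noncomputable def geo (d : ℕ) : PowerSeries ℚ := PowerSeries.mk fun i => if d ∣ i then 1 else 0

theorem geo_mul {d : ℕ} (hd : d ≠ 0) : geo d * (1 - PowerSeries.X ^ d) = 1 := by
  ext n
  rw [mul_sub, mul_one, map_sub, mul_comm, PowerSeries.coeff_X_pow_mul', geo, PowerSeries.coeff_mk,
    PowerSeries.coeff_one]
  by_cases hn : n = 0
  · subst hn
    simp [hd]
  by_cases h : d ≤ n
  · rw [if_pos h, PowerSeries.coeff_mk, if_neg hn]
    have : d ∣ n - d ↔ d ∣ n := Nat.dvd_sub_iff_left h dvd_rfl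
    simp only [this, sub_self]
  · rw [if_neg h, if_neg hn, if_neg fun hdn => h (Nat.le_of_dvd (Nat.pos_of_ne_zero hn) hdn), sub_zero]

variable {k : Type u} [Field k] [Finite k] {C : Scheme.{u}} [C.Over (Spec (CommRingCat.of k))]
  [IsProper (C ↘ Spec (CommRingCat.of k))] [Smooth (C ↘ Spec (CommRingCat.of k))] [IsIntegral C]
  [GeometricallyIrreducible (C ↘ Spec (CommRingCat.of k))]

open scoped Classical in
theorem coeff_prod_geo (s : Finset C) (d : C → ℕ) (n : ℕ) :
    PowerSeries.coeff n (∏ x ∈ s, geo (d x)) =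
      (Nat.card {l : C →₀ ℕ // l ∈ s.finsuppAntidiag n ∧ ∀ x ∈ s, d x ∣ l x} : ℚ) := by
  rw [PowerSeries.coeff_prod]
  simp only [geo, PowerSeries.coeff_mk, Finset.prod_boole]
  rw [Finset.sum_boole, ← Fintype.card_coe, ← Nat.card_eq_fintype_card]
  exact congrArg Nat.cast (Nat.card_congr (Equiv.subtypeEquivRight fun l => Finset.mem_filter))

/-- The coefficients of the zeta series count effective divisors. -/
theorem coeff_zetaFun (n : ℕ) :
    PowerSeries.coeff n (Zeta.zetaFun (C ↘ Spec (CommRingCat.of k))) = (Nat.card (Cyc k C n) : ℚ) := by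
  classical
  let f := C ↘ Spec (CommRingCat.of k)
  let d : C → ℕ := fun x => Module.finrank k (C.residueField x)
  let s := (finite_closed_le (k := k) (C := C) n).toFinset
  have hmem : ∀ x, x ∈ s ↔ IsClosed ({x} : Set C) ∧ d x ≤ n := fun x => Set.Finite.mem_toFinset _
  have hd : ∀ x ∈ s, d x ≠ 0 := fun x hx => (finrank_pos (k := k) x ((hmem x).1 hx).1).ne'
  have hprod : ∏ r ∈ Finset.Icc 1 n, (1 - PowerSeries.X ^ r : PowerSeries ℚ) ^ Zeta.degCount f r =
      ∏ x ∈ s, (1 - PowerSeries.X ^ d x) := by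
    rw [← Finset.prod_fiberwise_of_maps_to (g := d) (t := Finset.Icc 1 n) fun x hx =>
      Finset.mem_Icc.2 ⟨Nat.one_le_iff_ne_zero.2 (hd x hx), ((hmem x).1 hx).2⟩]
    refine Finset.prod_congr rfl fun r hr => ?_
    rw [Finset.prod_congr rfl (g := fun _ => (1 - PowerSeries.X ^ r : PowerSeries ℚ))
      fun x hx => by rw [(Finset.mem_filter.1 hx).2], Finset.prod_const]
    congr 1
    rw [Zeta.degCount, ← Fintype.card_coe, ← Nat.card_eq_fintype_card]
    refine Nat.card_congr (Equiv.subtypeEquivRight fun x => ?_)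
    rw [Finset.mem_filter, hmem, residueDegree_eq]
    exact ⟨fun h => ⟨⟨h.1, (h.2.trans_le (Finset.mem_Icc.1 hr).2 : _)⟩, h.2⟩, fun h => ⟨h.1.1, h.2⟩⟩
  have hinv : (∏ x ∈ s, (1 - PowerSeries.X ^ d x : PowerSeries ℚ)) * ∏ x ∈ s, geo (d x) = 1 := by
    rw [← Finset.prod_mul_distrib]
    exact Finset.prod_eq_one fun x hx => by rw [mul_comm, geo_mul (hd x hx)]
  have h := H27Zeta.trunc_zetaFun_mul_prod f n
  rw [hprod] at h
  have hcount : Nat.card {l : C →₀ ℕ // l ∈ s.finsuppAntidiag n ∧ ∀ x ∈ s, d x ∣ l x} = Nat.card (Cyc k C n) := by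
    let F : Cyc k C n → {l : C →₀ ℕ // l ∈ s.finsuppAntidiag n ∧ ∀ x ∈ s, d x ∣ l x} := fun a => by
      have hs : (a.1.support.sum fun x => a.1 x * d x) = n := by
        have := a.2.2
        simp only [Finsupp.sum] at this
        exact_mod_cast this
      have hsub : a.1.support ⊆ s := fun x hx => (hmem x).2 ⟨a.2.1 x hx, by
        have h1 := Finset.single_le_sum (f := fun y => a.1 y * d y) (fun y _ => Nat.zero_le _) hx
        have h2 : 1 ≤ a.1 x := Nat.one_le_iff_ne_zero.2 (Finsupp.mem_support_iff.1 hx)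
        exact (Nat.le_mul_of_pos_left _ h2).trans (h1.trans_eq hs)⟩
      refine ⟨Finsupp.onFinset s (fun x => a.1 x * d x) fun x hx =>
        hsub (Finsupp.mem_support_iff.2 fun h0 => hx (by rw [h0, zero_mul])), ?_, fun x _ => ?_⟩
      · rw [Finset.mem_finsuppAntidiag]
        refine ⟨?_, Finsupp.support_onFinset_subset⟩
        simp only [Finsupp.onFinset_apply]
        rw [← Finset.sum_subset hsub fun x _ hx => by rw [Finsupp.notMem_support_iff.1 hx, zero_mul]]
        exact hs
      · simp only [Finsupp.onFinset_apply]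
        exact dvd_mul_left _ _
    refine (Nat.card_congr (Equiv.ofBijective F ⟨fun a b hab => ?_, fun l => ?_⟩)).symm
    · refine Subtype.ext (Finsupp.ext fun x => ?_)
      have hx : a.1 x * d x = b.1 x * d x := DFunLike.congr_fun (congrArg Subtype.val hab) x
      by_cases h0 : d x = 0
      · have : ∀ c : Cyc k C n, c.1 x = 0 := fun c => by
          by_contra hc
          exact (finrank_pos (k := k) x (c.2.1 x (Finsupp.mem_support_iff.2 hc))).ne' h0
        rw [this a, this b]
      · exact mul_right_cancel₀ h0 hx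
    · obtain ⟨l, hl, hdvd⟩ := l
      rw [Finset.mem_finsuppAntidiag] at hl
      let α : C →₀ ℕ := Finsupp.onFinset s (fun x => l x / d x) fun x hx =>
        hl.2 (Finsupp.mem_support_iff.2 fun h0 => hx (by rw [h0, Nat.zero_div]))
      have hα : ∀ x, α x * d x = l x := fun x => by
        by_cases hx : x ∈ s
        · exact Nat.div_mul_cancel (hdvd x hx)
        · have h0 : l x = 0 := Finsupp.notMem_support_iff.1 fun h => hx (hl.2 h)
          show l x / d x * d x = l x
          rw [h0, Nat.zero_div, zero_mul]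
      have hsum : (α.sum fun x i => (i : ℤ) * Module.finrank k (C.residueField x)) = (n : ℤ) := by
        rw [Finsupp.sum_of_support_subset α Finsupp.support_onFinset_subset _ (fun x _ => by simp), ← hl.1,
          Nat.cast_sum]
        exact Finset.sum_congr rfl fun x _ => by exact_mod_cast hα x
      exact ⟨⟨α, fun x hx => ((hmem x).1 (Finsupp.support_onFinset_subset hx)).1, hsum⟩,
        Subtype.ext (Finsupp.ext hα)⟩
  rw [← hcount, ← coeff_prod_geo s d n]
  calc PowerSeries.coeff n (Zeta.zetaFun f)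
      = PowerSeries.coeff n ((Zeta.zetaFun f * ∏ x ∈ s, (1 - PowerSeries.X ^ d x)) * ∏ x ∈ s, geo (d x)) := by
        rw [mul_assoc, hinv, mul_one]
    _ = PowerSeries.coeff n
          (((PowerSeries.trunc (n + 1) (Zeta.zetaFun f * ∏ x ∈ s, (1 - PowerSeries.X ^ d x)) : Polynomial ℚ) :
            PowerSeries ℚ) * ((PowerSeries.trunc (n + 1) (∏ x ∈ s, geo (d x)) : Polynomial ℚ) : PowerSeries ℚ)) :=
        PowerSeries.coeff_mul_eq_coeff_trunc_mul_trunc _ _ n.lt_succ_self
    _ = _ := by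
        rw [h, Polynomial.coe_one, one_mul, Polynomial.coeff_coe, PowerSeries.coeff_trunc, if_pos n.lt_succ_self]

variable (hdim : topologicalKrullDim C = 1)

variable (k C) in
/-- The number of classes of degree zero. -/
noncomputable def hCl : ℕ := Nat.card (Cls k C 0)

variable (k C) in
/-- The sections summed over the classes of degree `m`. -/
noncomputable def cSum (m : ℤ) : ℚ := ∑ᶠ c : Cls k C m, (Nat.card k : ℚ) ^ h0C k c.1

include hdim in
theorem cSum_of_nonneg (m : ℕ) :
    ((Nat.card (Cyc k C (m : ℤ)) : ℚ)) * ((Nat.card k : ℚ) - 1) + hCl k C = cSum k C m := by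
  haveI := finite_cls (k := k) (C := C) hdim (m : ℤ)
  letI := Fintype.ofFinite (Cls k C (m : ℤ))
  rw [cSum, finsum_eq_sum_of_fintype, hCl, card_cls_eq (k := k) hdim 0 (m : ℤ)]
  have h := card_cyc (k := k) (C := C) hdim (m := (m : ℤ))
  have h' := congrArg (fun z : ℕ => (z : ℚ)) h
  simp only [Nat.cast_add, Nat.cast_mul, Nat.cast_sub (Nat.one_le_iff_ne_zero.2 Nat.card_pos.ne'), Nat.cast_one,
    Nat.cast_sum, Nat.cast_pow] at h'
  exact h'

include hdim in
theorem cSum_const {m : ℤ} {e : ℕ} (he : ∀ c : Cls k C m, h0C k c.1 = e) :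
    cSum k C m = hCl k C * (Nat.card k : ℚ) ^ e := by
  haveI := finite_cls (k := k) (C := C) hdim m
  letI := Fintype.ofFinite (Cls k C m)
  rw [cSum, finsum_eq_sum_of_fintype, Finset.sum_congr rfl fun c _ => by rw [he c], Finset.sum_const,
    Finset.card_univ, ← Nat.card_eq_fintype_card, card_cls_eq (k := k) hdim m 0, nsmul_eq_mul, hCl]

include hdim in
theorem cSum_of_neg {m : ℤ} (hm : m < 0) : cSum k C m = hCl k C := by
  refine (cSum_const (k := k) hdim fun c => ?_).trans (by rw [pow_zero, mul_one])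
  by_contra h0
  have hnt : Nontrivial (Coh.HH C (rep c.1) 0) := Module.nontrivial_of_finrank_pos (R := k) (Nat.pos_of_ne_zero h0)
  have := (H29RR.bounds_of_section (k := k) hdim.le (rep_inv c.1) hnt).1
  have hc := c.2
  rw [degC] at hc
  omega

include hdim in
theorem deg_omega :
    Curv2.deg k C (Omega.sheaf (C ↘ Spec (CommRingCat.of k))) 1 = 2 * (Curv2.genus k C : ℤ) - 2 :=
  H29CurveDual.deg_omega_of_h0 hdim (h0_structure (k := k) (C := C))

include hdim in
theorem cSum_of_large {m : ℤ} (hm : 2 * (Curv2.genus k C : ℤ) - 1 ≤ m) :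
    cSum k C m = hCl k C * (Nat.card k : ℚ) ^ (m + 1 - Curv2.genus k C) := by
  have h : ∀ c : Cls k C m, (h0C k c.1 : ℤ) = m + 1 - Curv2.genus k C := fun c => by
    have hc := c.2
    rw [degC] at hc
    haveI := H29CurveDual.subsingleton_h1_of_deg (k := k) hdim (rep_inv c.1) (by rw [deg_omega hdim, hc]; omega)
    have hrr := riemann_roch_cls (k := k) hdim c.1
    rw [c.2, Module.finrank_zero_of_subsingleton, Nat.cast_zero, sub_zero] at hrr
    exact hrr
  haveI := nonempty_cls (k := k) (C := C) hdim m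
  obtain ⟨c⟩ : Nonempty (Cls k C m) := inferInstance
  rw [cSum_const (k := k) hdim (e := h0C k c.1) fun c' => by have := h c; have := h c'; omega, ← h c, zpow_natCast]

include hdim in
/-- Duality on the sums. -/
theorem cSum_dual (m : ℤ) :
    cSum k C m = (Nat.card k : ℚ) ^ (m + 1 - Curv2.genus k C) * cSum k C (2 * Curv2.genus k C - 2 - m) := by
  have hΩ := H29CurveDual.isInvertible_omega_curve (k := k) hdim
  let ω : PicLoc.PicSet C := PicGrp.cls _ hΩ
  have hω : degC k ω = 2 * (Curv2.genus k C : ℤ) - 2 := by rw [degC_cls, deg_omega hdim]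
  let e : Cls k C m ≃ Cls k C (2 * Curv2.genus k C - 2 - m) :=
    ((Equiv.inv (PicLoc.PicSet C)).trans (Equiv.mulLeft ω)).subtypeEquiv fun c => by
      rw [Equiv.trans_apply, Equiv.inv_apply, Equiv.coe_mulLeft, degC_mul (k := k) hdim, degC_inv (k := k) hdim, hω]
      omega
  have hq : (Nat.card k : ℚ) ≠ 0 := by exact_mod_cast (Nat.card_pos (α := k)).ne'
  haveI := finite_cls (k := k) (C := C) hdim m
  haveI := finite_cls (k := k) (C := C) hdim (2 * Curv2.genus k C - 2 - m)
  letI := Fintype.ofFinite (Cls k C m)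
  letI := Fintype.ofFinite (Cls k C (2 * Curv2.genus k C - 2 - m))
  rw [cSum, cSum, finsum_eq_sum_of_fintype, finsum_eq_sum_of_fintype, ← e.sum_comp, Finset.mul_sum]
  refine Finset.sum_congr rfl fun c _ => ?_
  have hval : (e c).1 = PicGrp.cls _ (H11Ample.isInvertible_tensor hΩ (rep_inv c.1⁻¹)) := by
    show ω * c.1⁻¹ = _
    refine Subtype.ext ?_
    conv_lhs => rw [← cls_rep c.1⁻¹]
    exact PicGrp.cls_mul_cls_val _ _
  have hT : Nonempty (CohB1.tensorMod (rep c.1) (rep c.1⁻¹) ≅ Coh.structureModule C) := by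
    rw [← PicGrp.cls_mul_cls_eq_one_iff (rep_inv _) (rep_inv _), cls_rep, cls_rep, mul_inv_cancel]
  have h1 : Module.finrank k (Coh.HH C (rep c.1) 1) = h0C k (e c).1 := by
    rw [hval, h0C_cls]
    exact H29CurveDual.finrank_h1_invertible hdim (rep_inv _) (rep_inv _) hT.some
  have hrr := riemann_roch_cls (k := k) hdim c.1
  rw [h1, c.2] at hrr
  rw [← zpow_natCast _ (h0C k (e c).1), ← zpow_add₀ hq, ← zpow_natCast _ (h0C k c.1)]
  congr 1
  omega

variable (k C) in
/-- The number of effective divisors of degree `i`. -/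
noncomputable def bCnt (i : ℤ) : ℤ := if 0 ≤ i then (Nat.card (Cyc k C i) : ℤ) else 0

variable (k C) in
/-- The coefficients of the numerator. -/
noncomputable def aCoeff (i : ℤ) : ℤ :=
  bCnt k C i - (1 + (Nat.card k : ℤ)) * bCnt k C (i - 1) + (Nat.card k : ℤ) * bCnt k C (i - 2)

include hdim in
theorem bCnt_mul (i : ℤ) : (bCnt k C i : ℚ) * ((Nat.card k : ℚ) - 1) = cSum k C i - hCl k C := by
  rcases le_or_gt 0 i with h | h
  · obtain ⟨m, rfl⟩ := Int.eq_ofNat_of_zero_le h
    rw [bCnt, if_pos h, ← cSum_of_nonneg (k := k) hdim m]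
    simp
  · rw [bCnt, if_neg (not_le.2 h), cSum_of_neg (k := k) hdim h, Int.cast_zero, zero_mul, sub_self]

include hdim in
theorem aCoeff_mul (i : ℤ) : (aCoeff k C i : ℚ) * ((Nat.card k : ℚ) - 1) =
    cSum k C i - (1 + (Nat.card k : ℚ)) * cSum k C (i - 1) + (Nat.card k : ℚ) * cSum k C (i - 2) := by
  rw [aCoeff]
  push_cast
  linear_combination bCnt_mul (k := k) (C := C) hdim i - (1 + (Nat.card k : ℚ)) * bCnt_mul (k := k) (C := C) hdim (i - 1)
    + (Nat.card k : ℚ) * bCnt_mul (k := k) (C := C) hdim (i - 2)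

theorem card_sub_one_ne : (Nat.card k : ℚ) - 1 ≠ 0 := by
  have : (1 : ℚ) < Nat.card k := by exact_mod_cast Finite.one_lt_card (α := k)
  linarith

include hdim in
theorem aCoeff_eq_zero {i : ℤ} (hi : 2 * (Curv2.genus k C : ℤ) < i) : aCoeff k C i = 0 := by
  have hq : (Nat.card k : ℚ) ≠ 0 := by exact_mod_cast (Nat.card_pos (α := k)).ne'
  have h := aCoeff_mul (k := k) (C := C) hdim i
  rw [cSum_of_large (k := k) hdim (m := i) (by omega), cSum_of_large (k := k) hdim (m := i - 1) (by omega),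
    cSum_of_large (k := k) hdim (m := i - 2) (by omega),
    show i + 1 - (Curv2.genus k C : ℤ) = (i - 1 - Curv2.genus k C) + 2 by ring,
    show i - 1 + 1 - (Curv2.genus k C : ℤ) = (i - 1 - Curv2.genus k C) + 1 by ring,
    show i - 2 + 1 - (Curv2.genus k C : ℤ) = i - 1 - Curv2.genus k C by ring, zpow_add₀ hq, zpow_add₀ hq,
    zpow_two, zpow_one] at h
  have h0 : (aCoeff k C i : ℚ) * ((Nat.card k : ℚ) - 1) = 0 := h.trans (by ring)
  exact_mod_cast (mul_eq_zero.1 h0).resolve_right card_sub_one_ne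

include hdim in
/-- The functional equation. -/
theorem aCoeff_dual (i : ℤ) :
    (aCoeff k C (2 * Curv2.genus k C - i) : ℚ) = (Nat.card k : ℚ) ^ ((Curv2.genus k C : ℤ) - i) * aCoeff k C i := by
  have hq : (Nat.card k : ℚ) ≠ 0 := by exact_mod_cast (Nat.card_pos (α := k)).ne'
  have h := aCoeff_mul (k := k) (C := C) hdim i
  have h' := aCoeff_mul (k := k) (C := C) hdim (2 * Curv2.genus k C - i)
  set g : ℤ := (Curv2.genus k C : ℤ)
  rw [cSum_dual (k := k) hdim (2 * g - i), cSum_dual (k := k) hdim (2 * g - i - 1),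
    cSum_dual (k := k) hdim (2 * g - i - 2)] at h'
  rw [show 2 * g - i + 1 - g = (g - i) + 1 by ring, show 2 * g - 2 - (2 * g - i) = i - 2 by ring,
    show 2 * g - i - 1 + 1 - g = g - i by ring, show 2 * g - 2 - (2 * g - i - 1) = i - 1 by ring,
    show 2 * g - i - 2 + 1 - g = (g - i) - 1 by ring, show 2 * g - 2 - (2 * g - i - 2) = i by ring,
    zpow_add_one₀ hq, zpow_sub_one₀ hq] at h'
  refine mul_right_cancel₀ card_sub_one_ne (h'.trans ?_)
  rw [mul_assoc ((Nat.card k : ℚ) ^ (g - i)) (aCoeff k C i : ℚ), h]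
  field_simp
  ring

variable (k C) in
/-- The numerator of the zeta series. -/
noncomputable def lPoly : Polynomial ℤ :=
  ∑ i ∈ Finset.range (2 * Curv2.genus k C + 1), Polynomial.monomial i (aCoeff k C i)

include hdim in
theorem coeff_lPoly (i : ℕ) : (lPoly k C).coeff i = aCoeff k C i := by
  rw [lPoly, Polynomial.finset_sum_coeff]
  simp only [Polynomial.coeff_monomial, Finset.sum_ite_eq', Finset.mem_range]
  split_ifs with h
  · rfl
  · exact (aCoeff_eq_zero (k := k) hdim (by omega)).symm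

theorem natDegree_lPoly : (lPoly k C).natDegree ≤ 2 * Curv2.genus k C :=
  Polynomial.natDegree_sum_le_of_forall_le _ _ fun i hi =>
    (Polynomial.natDegree_monomial_le _).trans (by have := Finset.mem_range.1 hi; omega)

theorem aCoeff_zero : aCoeff k C 0 = 1 := by
  have h := coeff_zetaFun (k := k) (C := C) 0
  rw [PowerSeries.coeff_zero_eq_constantCoeff_apply, Zeta.zetaFun,
    ← PowerSeries.coeff_zero_eq_constantCoeff_apply, PowerSeries.coeff_subst'
      (PowerSeries.HasSubst.of_constantCoeff_zero' (H27Zeta.constantCoeff_logZeta _)),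
    finsum_eq_single _ 0 fun d hd => by simp [H27Zeta.constantCoeff_logZeta, zero_pow hd]] at h
  simp only [pow_zero, PowerSeries.coeff_one, if_true, smul_eq_mul, mul_one, PowerSeries.coeff_exp,
    Nat.factorial_zero, Nat.cast_one, div_one, map_one, Nat.cast_zero] at h
  rw [aCoeff, bCnt, bCnt, bCnt, if_pos le_rfl, if_neg (by omega), if_neg (by omega), mul_zero, mul_zero, sub_zero,
    add_zero]
  exact_mod_cast h.symm

theorem sum_aCoeff (n : ℕ) :
    ∑ i ∈ Finset.range (n + 1), aCoeff k C (i : ℤ) = bCnt k C n - (Nat.card k : ℤ) * bCnt k C (n - 1) := by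
  induction n with
  | zero =>
    rw [Finset.sum_range_one, aCoeff, Nat.cast_zero, show bCnt k C ((0 : ℤ) - 1) = 0 from if_neg (by omega),
      show bCnt k C ((0 : ℤ) - 2) = 0 from if_neg (by omega)]
    ring
  | succ n ih =>
    rw [Finset.sum_range_succ, ih, aCoeff, show (((n + 1 : ℕ) : ℤ) - 1) = n by omega,
      show (((n + 1 : ℕ) : ℤ) - 2) = (n : ℤ) - 1 by omega]
    ring

include hdim in
theorem eval_one_lPoly : (lPoly k C).eval 1 = hCl k C := by
  rw [lPoly, Polynomial.eval_finset_sum]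
  simp only [Polynomial.eval_monomial, one_pow, mul_one]
  rw [sum_aCoeff]
  have hq : (Nat.card k : ℚ) ≠ 0 := by exact_mod_cast (Nat.card_pos (α := k)).ne'
  have h1 := bCnt_mul (k := k) (C := C) hdim ((2 * Curv2.genus k C : ℕ) : ℤ)
  have h2 := bCnt_mul (k := k) (C := C) hdim (((2 * Curv2.genus k C : ℕ) : ℤ) - 1)
  rw [cSum_of_large (k := k) hdim (m := ((2 * Curv2.genus k C : ℕ) : ℤ)) (by omega),
    show ((2 * Curv2.genus k C : ℕ) : ℤ) + 1 - (Curv2.genus k C : ℤ) = (Curv2.genus k C : ℤ) + 1 by omega,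
    zpow_add_one₀ hq] at h1
  rw [cSum_of_large (k := k) hdim (m := ((2 * Curv2.genus k C : ℕ) : ℤ) - 1) (by omega),
    show ((2 * Curv2.genus k C : ℕ) : ℤ) - 1 + 1 - (Curv2.genus k C : ℤ) = (Curv2.genus k C : ℤ) by omega] at h2
  have h3 : (((bCnt k C ((2 * Curv2.genus k C : ℕ) : ℤ) -
      (Nat.card k : ℤ) * bCnt k C (((2 * Curv2.genus k C : ℕ) : ℤ) - 1)) : ℤ) : ℚ) * ((Nat.card k : ℚ) - 1) =
      (hCl k C : ℚ) * ((Nat.card k : ℚ) - 1) := by
    rw [Int.cast_sub, Int.cast_mul, Int.cast_natCast]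
    linear_combination h1 - (Nat.card k : ℚ) * h2
  exact_mod_cast mul_right_cancel₀ card_sub_one_ne h3

include hdim in
/-- The rationality of the zeta series. -/
theorem zetaFun_mul :
    Zeta.zetaFun (C ↘ Spec (CommRingCat.of k)) *
        ((1 - PowerSeries.X) * (1 - PowerSeries.C (Nat.card k : ℚ) * PowerSeries.X)) =
      (((lPoly k C).map (Int.castRingHom ℚ) : Polynomial ℚ) : PowerSeries ℚ) := by
  have hb : ∀ n : ℕ, PowerSeries.coeff n (Zeta.zetaFun (C ↘ Spec (CommRingCat.of k))) = (bCnt k C n : ℚ) :=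
    fun n => by rw [coeff_zetaFun, bCnt, if_pos (Int.natCast_nonneg n), Int.cast_natCast]
  ext n
  rw [Polynomial.coeff_coe, Polynomial.coeff_map, coeff_lPoly (k := k) hdim n, eq_intCast,
    show Zeta.zetaFun (C ↘ Spec (CommRingCat.of k)) *
        ((1 - PowerSeries.X) * (1 - PowerSeries.C (Nat.card k : ℚ) * PowerSeries.X)) =
      Zeta.zetaFun (C ↘ Spec (CommRingCat.of k)) -
        PowerSeries.C (1 + (Nat.card k : ℚ)) * (PowerSeries.X * Zeta.zetaFun (C ↘ Spec (CommRingCat.of k))) +
        PowerSeries.C (Nat.card k : ℚ) * (PowerSeries.X ^ 2 * Zeta.zetaFun (C ↘ Spec (CommRingCat.of k))) by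
      rw [map_add, map_one]; ring,
    map_add, map_sub, PowerSeries.coeff_C_mul, PowerSeries.coeff_C_mul, PowerSeries.coeff_X_pow_mul',
    ← pow_one (PowerSeries.X : PowerSeries ℚ), PowerSeries.coeff_X_pow_mul', aCoeff]
  push_cast
  rw [hb n]
  congr 1
  · congr 1
    congr 1
    by_cases h : 1 ≤ n
    · rw [if_pos h, hb, show ((n - 1 : ℕ) : ℤ) = (n : ℤ) - 1 by omega]
    · rw [if_neg h, bCnt, if_neg (by omega), Int.cast_zero]
  · congr 1
    by_cases h : 2 ≤ n
    · rw [if_pos h, hb, show ((n - 2 : ℕ) : ℤ) = (n : ℤ) - 2 by omega]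
    · rw [if_neg h, bCnt, if_neg (by omega), Int.cast_zero]

end Groth.Agent.H27CurveZeta
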