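import Groth.Agent.H27CurveZeta.Series
import Groth.Agent.H27Zeta.AffineLine
import Groth.Agent.S15524

/-!
# The inverse roots of the numerator of the zeta series of a curve
-/

set_option autoImplicit false
set_option linter.style.haveILetI false
set_option linter.unusedSectionVars false
set_option backward.isDefEq.respectTransparency.types false
universe u

open CategoryTheory CategoryTheory.Limits AlgebraicGeometry TopologicalSpace

namespace Groth.Agent.H27CurveZeta

/-- The exponential of a series determines it. -/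
theorem exp_subst_inj {L₁ L₂ : PowerSeries ℂ} (h₁ : PowerSeries.constantCoeff L₁ = 0)
    (h₂ : PowerSeries.constantCoeff L₂ = 0)
    (h : (PowerSeries.exp ℂ).subst L₁ = (PowerSeries.exp ℂ).subst L₂) : L₁ = L₂ := by
  have hd : ∀ {L : PowerSeries ℂ}, PowerSeries.constantCoeff L = 0 →
      PowerSeries.derivative ℂ ((PowerSeries.exp ℂ).subst L) =
        (PowerSeries.exp ℂ).subst L * PowerSeries.derivative ℂ L := fun {L} hL => by
    rw [PowerSeries.derivative_subst (PowerSeries.HasSubst.of_constantCoeff_zero' hL), PowerSeries.derivative_exp]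
  have hne : (PowerSeries.exp ℂ).subst L₂ ≠ 0 := fun h0 => by
    have hc := congrArg (PowerSeries.coeff 0) h0
    rw [PowerSeries.coeff_subst' (PowerSeries.HasSubst.of_constantCoeff_zero' h₂),
      finsum_eq_single _ 0 fun d hd => by simp [h₂, zero_pow hd]] at hc
    simp at hc
  refine PowerSeries.derivative.ext (mul_left_cancel₀ hne ?_) (h₁.trans h₂.symm)
  rw [← hd h₂, ← h, hd h₁]

theorem exp_subst_add {a b : PowerSeries ℂ} (ha : PowerSeries.constantCoeff a = 0)
    (hb : PowerSeries.constantCoeff b = 0) :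
    (PowerSeries.exp ℂ).subst (a + b) = (PowerSeries.exp ℂ).subst a * (PowerSeries.exp ℂ).subst b := by
  have h := H27Weil.exp_subst_sum (A := ℂ) (Finset.univ : Finset (Fin 2)) ![a, b]
    (fun i _ => by fin_cases i <;> assumption)
  simpa [Fin.sum_univ_two, Fin.prod_univ_two] using h

/-- A monic polynomial over a field with enough roots is the product of its linear factors. -/
theorem exists_roots (R : Polynomial ℂ) (hR : R.Monic) {n : ℕ} (hn : R.natDegree = n) :
    ∃ α : Fin n → ℂ, R = ∏ i, (Polynomial.X - Polynomial.C (α i)) := by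
  have hs : R.Splits := IsAlgClosed.splits R
  have hc : R.roots.card = n := hs.natDegree_eq_card_roots.symm.trans hn
  let l := R.roots.toList
  have hl : l.length = n := by rw [Multiset.length_toList, hc]
  refine ⟨fun i => l.get (Fin.cast hl.symm i), ?_⟩
  have hprod : (R.roots.map fun a => Polynomial.X - Polynomial.C a).prod = R := by
    rw [← hs.eq_prod_roots_of_monic hR]
  conv_lhs => rw [← hprod, ← Multiset.coe_toList R.roots, Multiset.map_coe, Multiset.prod_coe]
  rw [← List.prod_ofFn]
  congr 1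
  refine List.ext_getElem (by simp [l, hc]) fun i h1 h2 => ?_
  simp [l]

/-- Families with the same linear factors differ by a permutation. -/
theorem exists_perm {n : ℕ} (α β : Fin n → ℂ)
    (h : ∏ i, (Polynomial.X - Polynomial.C (α i)) = ∏ i, (Polynomial.X - Polynomial.C (β i))) :
    ∃ σ : Equiv.Perm (Fin n), ∀ i, α (σ i) = β i := by
  classical
  have hroots : ∀ γ : Fin n → ℂ, (∏ i, (Polynomial.X - Polynomial.C (γ i))).roots = Finset.univ.val.map γ := fun γ => by
    rw [Finset.prod_eq_multiset_prod,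
      show (Finset.univ.val.map fun i => Polynomial.X - Polynomial.C (γ i)) =
        (Finset.univ.val.map γ).map fun a => Polynomial.X - Polynomial.C a by rw [Multiset.map_map]; rfl,
      Polynomial.roots_multiset_prod_X_sub_C]
  have hm : Finset.univ.val.map α = Finset.univ.val.map β := by rw [← hroots, ← hroots, h]
  have hcount : ∀ c : ℂ, Fintype.card {i // β i = c} = Fintype.card {i // α i = c} := fun c => by
    have hc := congrArg (Multiset.count c) hm
    rw [Multiset.count_map, Multiset.count_map] at hc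
    simp only [Fintype.card_subtype]
    simp only [eq_comm] at hc ⊢
    exact hc
  exact ⟨Equiv.ofFiberEquiv fun c => Fintype.equivOfCardEq (hcount c), fun i => Equiv.ofFiberEquiv_map _ i⟩

variable {k : Type u} [Field k] [Finite k] {C : Scheme.{u}} [C.Over (Spec (CommRingCat.of k))]
  [IsProper (C ↘ Spec (CommRingCat.of k))] [Smooth (C ↘ Spec (CommRingCat.of k))] [IsIntegral C]
  [GeometricallyIrreducible (C ↘ Spec (CommRingCat.of k))] (hdim : topologicalKrullDim C = 1)

include hdim

/-- The inverse roots, their symmetry and the point counts. -/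
theorem exists_inverseRoots :
    ∃ α : Fin (2 * Curv2.genus k C) → ℂ, (∀ i, IsIntegral ℤ (α i)) ∧
      (∃ σ : Equiv.Perm (Fin (2 * Curv2.genus k C)), ∀ i, α (σ i) * α i = Nat.card k) ∧
      ∀ m : ℕ, 0 < m →
        (Zeta.nPts (C ↘ Spec (CommRingCat.of k)) m : ℂ) = (Nat.card k : ℂ) ^ m + 1 - ∑ i, α i ^ m := by
  set g := Curv2.genus k C with hg
  let q : ℕ := Nat.card k
  have hq : (q : ℂ) ≠ 0 := by exact_mod_cast (Nat.card_pos (α := k)).ne'
  let a : ℕ → ℤ := fun i => aCoeff k C i
  have ha0 : a 0 = 1 := aCoeff_zero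
  have hdual : ∀ i : ℕ, i ≤ 2 * g → (q : ℂ) ^ i * (a (2 * g - i) : ℂ) = (q : ℂ) ^ g * (a i : ℂ) := by
    intro i hi
    have h := aCoeff_dual (k := k) (C := C) hdim i
    rw [show 2 * (Curv2.genus k C : ℤ) - (i : ℤ) = ((2 * g - i : ℕ) : ℤ) by omega] at h
    have hq' : (Nat.card k : ℚ) ≠ 0 := by exact_mod_cast (Nat.card_pos (α := k)).ne'
    have h' : (Nat.card k : ℚ) ^ i * (a (2 * g - i) : ℚ) = (Nat.card k : ℚ) ^ g * (a i : ℚ) := by
      show _ * (aCoeff k C ((2 * g - i : ℕ) : ℤ) : ℚ) = _
      rw [h, ← mul_assoc, zpow_sub₀ hq', zpow_natCast, zpow_natCast, mul_div_cancel₀ _ (pow_ne_zero _ hq')]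
    have h'' := congrArg (fun z : ℚ => (z : ℂ)) h'
    push_cast at h''
    exact h''
  have ha2g : (a (2 * g) : ℂ) = (q : ℂ) ^ g := by
    have h := hdual 0 (Nat.zero_le _)
    rw [pow_zero, one_mul, Nat.sub_zero, ha0, Int.cast_one, mul_one] at h
    exact h
  -- the reversed numerator
  let Rz : Polynomial ℤ := ∑ i ∈ Finset.range (2 * g + 1), Polynomial.monomial (2 * g - i) (a i)
  have hRzc : Rz.coeff (2 * g) = 1 := by
    rw [Polynomial.finsetSum_coeff, Finset.sum_eq_single 0 (fun i hi hne => by
      rw [Polynomial.coeff_monomial, if_neg (by have := Finset.mem_range.1 hi; omega)]) (by simp)]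
    rw [Polynomial.coeff_monomial, if_pos (Nat.sub_zero _), ha0]
  have hRzd : Rz.natDegree ≤ 2 * g := Polynomial.natDegree_sum_le_of_forall_le _ _ fun i _ =>
    (Polynomial.natDegree_monomial_le _).trans (Nat.sub_le _ _)
  have hRzm : Rz.Monic := Polynomial.monic_of_natDegree_le_of_coeff_eq_one _ hRzd hRzc
  have hRzn : Rz.natDegree = 2 * g := le_antisymm hRzd (Polynomial.le_natDegree_of_ne_zero (by rw [hRzc]; exact one_ne_zero))
  obtain ⟨α, hα⟩ := exists_roots (Rz.map (Int.castRingHom ℂ)) (hRzm.map _)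
    (by rw [hRzm.natDegree_map, hRzn])
  have hR : ∀ z : ℂ, ∏ i, (z - α i) = ∑ i ∈ Finset.range (2 * g + 1), (a i : ℂ) * z ^ (2 * g - i) := fun z => by
    have h := congrArg (Polynomial.eval z) hα
    rw [Polynomial.eval_prod] at h
    simp only [Polynomial.eval_sub, Polynomial.eval_X, Polynomial.eval_C] at h
    rw [← h, Polynomial.eval_map, Polynomial.eval₂_finsetSum]
    simp only [Polynomial.eval₂_monomial, eq_intCast]
  have hprod : ∏ i, (-α i) = (q : ℂ) ^ g := by
    have h := hR 0
    rw [Finset.sum_eq_single (2 * g) (fun i hi hne => by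
      rw [zero_pow (by have := Finset.mem_range.1 hi; omega), mul_zero]) (by simp), Nat.sub_self, pow_zero, mul_one,
      ha2g] at h
    simp only [zero_sub] at h
    exact h
  have hne : ∀ i, α i ≠ 0 := fun i h0 => by
    have h1 : ∏ j, (-α j) = 0 := Finset.prod_eq_zero (Finset.mem_univ i) (by rw [h0, neg_zero])
    exact pow_ne_zero g hq (hprod ▸ h1)
  -- the symmetry
  have key : ∀ z : ℂ, z ≠ 0 → ∏ i, (z - α i) = ∏ i, (z - (q : ℂ) / α i) := fun z hz => by
    have h1 : (∏ i, (z - (q : ℂ) / α i)) * ∏ i, (-α i) = z ^ (2 * g) * ∏ i, ((q : ℂ) / z - α i) := by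
      have hpow : z ^ (2 * g) = ∏ _i : Fin (2 * g), z := by
        rw [Finset.prod_const, Finset.card_univ, Fintype.card_fin]
      rw [← Finset.prod_mul_distrib, hpow, ← Finset.prod_mul_distrib]
      refine Finset.prod_congr rfl fun i _ => ?_
      rw [mul_sub, mul_div_cancel₀ _ hz, sub_mul, mul_neg, mul_neg, div_mul_cancel₀ _ (hne i)]
      ring
    have h2 : z ^ (2 * g) * ∏ i, ((q : ℂ) / z - α i) = (q : ℂ) ^ g * ∏ i, (z - α i) := by
      rw [hR, hR, ← Finset.sum_range_reflect (fun i => (a i : ℂ) * z ^ (2 * g - i)) (2 * g + 1),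
        Finset.mul_sum, Finset.mul_sum]
      refine Finset.sum_congr rfl fun i hi => ?_
      have hi' : i ≤ 2 * g := Nat.lt_succ_iff.1 (Finset.mem_range.1 hi)
      rw [show 2 * g + 1 - 1 - i = 2 * g - i by omega, show 2 * g - (2 * g - i) = i by omega]
      have hzi : z ^ (2 * g) * ((q : ℂ) / z) ^ (2 * g - i) = z ^ i * (q : ℂ) ^ (2 * g - i) := by
        have hsplit : z ^ (2 * g) = z ^ i * z ^ (2 * g - i) := by rw [← pow_add]; congr 1; omega
        rw [hsplit, mul_assoc, ← mul_pow, mul_div_cancel₀ _ hz]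
      calc z ^ (2 * g) * ((a i : ℂ) * ((q : ℂ) / z) ^ (2 * g - i))
          = (a i : ℂ) * (z ^ (2 * g) * ((q : ℂ) / z) ^ (2 * g - i)) := by ring
        _ = z ^ i * ((q : ℂ) ^ (2 * g - i) * (a i : ℂ)) := by rw [hzi]; ring
        _ = (q : ℂ) ^ g * ((a (2 * g - i) : ℂ) * z ^ i) := by
            have h3 := hdual (2 * g - i) (Nat.sub_le _ _)
            rw [show 2 * g - (2 * g - i) = i by omega] at h3
            rw [h3]
            ring
    rw [hprod] at h1
    exact mul_left_cancel₀ (pow_ne_zero g hq) (h2.symm.trans (h1.symm.trans (mul_comm _ _)))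
  obtain ⟨σ, hσ⟩ := exists_perm α (fun i => (q : ℂ) / α i) (by
    refine Polynomial.eq_of_infinite_eval_eq _ _ (Set.Infinite.mono (fun z hz => ?_)
      (Set.finite_singleton (0 : ℂ)).infinite_compl)
    have hz' : z ≠ 0 := hz
    show Polynomial.eval z _ = Polynomial.eval z _
    rw [Polynomial.eval_prod, Polynomial.eval_prod]
    simp only [Polynomial.eval_sub, Polynomial.eval_X, Polynomial.eval_C]
    exact key z hz')
  refine ⟨α, fun i => ⟨Rz, hRzm, ?_⟩, ⟨σ, fun i => by rw [hσ i, div_mul_cancel₀ _ (hne i)]⟩, ?_⟩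
  · have h := hR (α i)
    rw [Finset.prod_eq_zero (Finset.mem_univ i) (sub_self _)] at h
    rw [Polynomial.eval₂_finsetSum]
    simp only [Polynomial.eval₂_monomial, eq_intCast]
    exact h.symm
  -- the numerator as a product
  have hP : ((lPoly k C).map (Int.castRingHom ℂ)) = ∏ i, (1 - Polynomial.C (α i) * Polynomial.X) := by
    refine Polynomial.eq_of_infinite_eval_eq _ _ (Set.Infinite.mono (fun z hz => ?_)
      (Set.finite_singleton (0 : ℂ)).infinite_compl)
    have hz' : z ≠ 0 := hz
    show Polynomial.eval z _ = Polynomial.eval z _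
    rw [Polynomial.eval_map, lPoly, Polynomial.eval₂_finsetSum, Polynomial.eval_prod]
    simp only [Polynomial.eval₂_monomial, eq_intCast, Polynomial.eval_sub, Polynomial.eval_one,
      Polynomial.eval_mul, Polynomial.eval_C, Polynomial.eval_X, ← hg]
    have hpow : z ^ (2 * g) = ∏ _i : Fin (2 * g), z := by
      rw [Finset.prod_const, Finset.card_univ, Fintype.card_fin]
    rw [show ∏ i, (1 - α i * z) = z ^ (2 * g) * ∏ i, (z⁻¹ - α i) by
      rw [hpow, ← Finset.prod_mul_distrib]
      exact Finset.prod_congr rfl fun i _ => by rw [mul_sub, mul_inv_cancel₀ hz', mul_comm], hR, Finset.mul_sum]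
    refine Finset.sum_congr rfl fun i hi => ?_
    have hi' : i ≤ 2 * g := Nat.lt_succ_iff.1 (Finset.mem_range.1 hi)
    rw [inv_pow, show z ^ (2 * g) = z ^ i * z ^ (2 * g - i) by rw [← pow_add]; congr 1; omega,
      show z ^ i * z ^ (2 * g - i) * ((a i : ℂ) * (z ^ (2 * g - i))⁻¹) =
        (a i : ℂ) * z ^ i * (z ^ (2 * g - i) * (z ^ (2 * g - i))⁻¹) by ring,
      mul_inv_cancel₀ (pow_ne_zero _ hz'), mul_one]
  intro m hm
  -- logarithms
  let f := C ↘ Spec (CommRingCat.of k)
  let φ := PowerSeries.map (algebraMap ℚ ℂ)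
  let L := φ (Zeta.logZeta f)
  have hL0 : PowerSeries.constantCoeff L = 0 := by
    rw [← PowerSeries.coeff_zero_eq_constantCoeff_apply, PowerSeries.coeff_map,
      PowerSeries.coeff_zero_eq_constantCoeff_apply, H27Zeta.constantCoeff_logZeta, map_zero]
  have hZ : φ (Zeta.zetaFun f) = (PowerSeries.exp ℂ).subst L := by
    rw [Zeta.zetaFun]
    refine (PowerSeries.map_subst
      (PowerSeries.HasSubst.of_constantCoeff_zero' (H27Zeta.constantCoeff_logZeta f)) _).trans ?_
    rw [PowerSeries.map_exp]
    rfl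
  have hzero : ∀ (b : ℂ), PowerSeries.constantCoeff (H27Zeta.logFac b 1) = 0 := fun b => H27Zeta.constantCoeff_logFac b 1
  have hlin : L + H27Zeta.logFac (1 : ℂ) 1 + H27Zeta.logFac (q : ℂ) 1 = ∑ i, H27Zeta.logFac (α i) 1 := by
    refine exp_subst_inj (by rw [map_add, map_add, hL0, hzero, hzero, add_zero, add_zero])
      (by rw [map_sum]; exact Finset.sum_eq_zero fun i _ => hzero _) ?_
    rw [exp_subst_add (by rw [map_add, hL0, hzero, add_zero]) (hzero _), exp_subst_add hL0 (hzero _), ← hZ,
      H27Zeta.exp_subst_logFac _ _ one_ne_zero, H27Zeta.exp_subst_logFac _ _ one_ne_zero,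
      H27Weil.exp_subst_sum (A := ℂ) _ _ (fun i _ => hzero _),
      Finset.prod_congr rfl fun i _ => H27Zeta.exp_subst_logFac _ _ one_ne_zero]
    have h := congrArg φ (zetaFun_mul (k := k) (C := C) hdim)
    rw [map_mul, map_mul, map_sub, map_sub, map_one, map_mul, PowerSeries.map_X, PowerSeries.map_C, map_natCast] at h
    simp only [pow_one, map_one, one_mul]
    rw [mul_assoc]
    refine h.trans ?_
    rw [Polynomial.polynomial_map_coe.symm, Polynomial.map_map,
      show (algebraMap ℚ ℂ).comp (Int.castRingHom ℚ) = Int.castRingHom ℂ from RingHom.ext_int _ _, hP,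
      ← Polynomial.coeToPowerSeries.ringHom_apply, map_prod]
    refine Finset.prod_congr rfl fun i _ => ?_
    rw [Polynomial.coeToPowerSeries.ringHom_apply, Polynomial.coe_sub, Polynomial.coe_one, Polynomial.coe_mul,
      Polynomial.coe_C, Polynomial.coe_X]
  have hm' : (m : ℂ) ≠ 0 := by exact_mod_cast hm.ne'
  have h := congrArg (PowerSeries.coeff m) hlin
  rw [map_add, map_add, map_sum] at h
  simp only [L, φ, PowerSeries.coeff_map, Zeta.logZeta, H27Zeta.logFac, PowerSeries.coeff_mk, one_dvd, if_true,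
    Nat.cast_one, one_mul, Nat.div_one, map_div₀, map_natCast, one_pow, ← Finset.sum_div] at h
  field_simp at h
  rw [Finset.sum_neg_distrib] at h
  linear_combination h

end Groth.Agent.H27CurveZeta
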